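import Cfsg.Agent.CharDeep.CC.Count
import Cfsg.Agent.CharDeep.CA.Main
import Cfsg.Agent.S0346
import Cfsg.Agent.S1147
import Cfsg.Agent.Lib.Zassenhaus.AbelianBound
import Cfsg.Agent.Lib.Zassenhaus.TwoKernelMain
import Cfsg.Agent.Lib.Perm.ThreeTransitive
import Cfsg.Agent.S4702
import Cfsg.Agent.CharDeep.OrderP.Recog
import Cfsg.Agent.Lib.Zassenhaus.OddDegree

/-!
The Zassenhaus group on the conjugates of `C(t)`.
-/

set_option autoImplicit false

namespace Cfsg.Agent.CharDeep.CC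

open CA (cent nrm dd mem_cent conj_mem_cent card_cent_conj inverts_of_fpf cent_le_nrm)

open MulAction

theorem zassenhaus {G : Type*} [Group G] [Finite G] {t : G} (H : Data G t) :
    IsSimpleGroup G ∧ Cfsg.IsZassenhausGroup G (G ⧸ nrm t) ∧
      Nat.card (G ⧸ nrm t) = Nat.card (cent t) + 1 ∧
      (∀ [Fintype (G ⧸ nrm t)], Zass.IsKernel (QuotientGroup.mk 1 : G ⧸ nrm t) (cent t)) ∧
      ∃ b : G ⧸ nrm t, (QuotientGroup.mk 1 : G ⧸ nrm t) ≠ b ∧
        Nat.card ↥(Zass.two G (QuotientGroup.mk 1 : G ⧸ nrm t) b) = (cent t).relIndex (nrm t) := by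
  classical
  obtain ⟨hidx, u, hu, huN, hcov, hsep⟩ := main H
  haveI := Fintype.ofFinite G
  let Ω := G ⧸ nrm t
  haveI : Fintype Ω := Fintype.ofFinite Ω
  have huinv : u⁻¹ = u := inv_eq_of_mul_eq_one_right hu
  set a₀ : Ω := QuotientGroup.mk 1 with ha₀
  set b₀ : Ω := QuotientGroup.mk u with hb₀
  have hab : a₀ ≠ b₀ := (mk_ne_one huN).symm
  have hsmul : ∀ g x : G, g • (QuotientGroup.mk x : Ω) = QuotientGroup.mk (g * x) := fun g x => rfl
  have hfixa : ∀ g : G, g • a₀ = a₀ ↔ g ∈ nrm t := fun g => by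
    rw [ha₀, hsmul, mul_one, QuotientGroup.eq, mul_one]
    exact (nrm t).inv_mem_iff
  have hfixx : ∀ g x : G, g • (QuotientGroup.mk x : Ω) = QuotientGroup.mk x ↔
      x⁻¹ * g * x ∈ nrm t := fun g x => by
    rw [hsmul, QuotientGroup.eq, ← (nrm t).inv_mem_iff]
    simp [mul_assoc]
  have hfixb : ∀ g : G, (g • a₀ = a₀ ∧ g • b₀ = b₀) ↔ g ∈ dd t u := fun g => by
    rw [mem_dd hu huN, hfixa, hb₀, hfixx, huinv]
  have hcov' : ∀ c : Ω, c ≠ a₀ → ∃ α ∈ cent t, c = α • b₀ := fun c hc => by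
    obtain ⟨x, rfl⟩ := QuotientGroup.mk_surjective c
    obtain ⟨α, hα, he⟩ := hcov x fun hx => hc (by
      rw [ha₀, QuotientGroup.eq, mul_one]; exact (nrm t).inv_mem hx)
    exact ⟨α, hα, he⟩
  have hstd : ∀ x y : Ω, x ≠ y → ∃ g : G, g • a₀ = x ∧ g • b₀ = y := fun x y hxy => by
    obtain ⟨r, rfl⟩ := QuotientGroup.mk_surjective x
    obtain ⟨α, hα, he⟩ := hcov' (r⁻¹ • y) fun he => hxy (by
      rw [inv_smul_eq_iff] at he
      rw [he, ha₀, hsmul, mul_one])
    refine ⟨r * α, ?_, ?_⟩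
    · rw [mul_smul, (hfixa α).2 (cent_le_nrm t hα), ha₀, hsmul, mul_one]
    · rw [mul_smul, ← he, smul_inv_smul]
  have h2 : IsMultiplyPretransitive G Ω 2 := is_two_pretransitive_iff.2 fun {x y z w} hxy hzw => by
    obtain ⟨g, g1, g2⟩ := hstd x y hxy
    obtain ⟨k, k1, k2⟩ := hstd z w hzw
    exact ⟨k * g⁻¹, by rw [mul_smul, ← g1, inv_smul_smul, k1],
      by rw [mul_smul, ← g2, inv_smul_smul, k2]⟩
  have hthree : ∀ g : G, ∀ x y z : Ω, x ≠ y → y ≠ z → x ≠ z → g • x = x → g • y = y → g • z = z →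
      g = 1 := by
    intro g x y z hxy hyz hxz hx hy hz
    obtain ⟨r, rfl, rfl⟩ := hstd x y hxy
    set k := r⁻¹ * g * r with hk
    have hkd : k ∈ dd t u := (hfixb k).1
      ⟨by rw [hk, mul_smul, mul_smul, hx, inv_smul_smul],
        by rw [hk, mul_smul, mul_smul, hy, inv_smul_smul]⟩
    obtain ⟨α, hα, he⟩ := hcov' (r⁻¹ • z) fun he => hxz (by
      rw [inv_smul_eq_iff] at he; exact he.symm)
    have hkz : k • (α • b₀) = α • b₀ := by
      rw [← he, hk, mul_smul, mul_smul, smul_inv_smul, hz]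
    have hαd : α⁻¹ * k * α ∈ dd t u := (hfixb _).1
      ⟨by rw [mul_smul, mul_smul, (hfixa α).2 (cent_le_nrm t hα), (hfixa k).2 hkd.1,
          (hfixa α⁻¹).2 ((nrm t).inv_mem (cent_le_nrm t hα))],
        by rw [mul_smul, mul_smul, hkz, inv_smul_smul]⟩
    by_contra hg1
    have hα1 := hsep α hα k hkd hαd fun hk1 => hg1 (by
      rw [show g = r * k * r⁻¹ by rw [hk]; group, hk1]; group)
    rw [hα1, one_smul, inv_smul_eq_iff] at he
    exact hyz he.symm
  have hker : (toPermHom G Ω).ker = ⊥ := by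
    set K := (toPermHom G Ω).ker
    have hKN : K ≤ nrm t := fun x hx => (hfixa x).1 (Equiv.congr_fun (MonoidHom.mem_ker.1 hx) a₀)
    have hKA : ∀ x ∈ K, x ∈ cent t → x = 1 := fun x hx hxA => by
      refine eq_one_of_conj H huN hxA ?_
      rw [huinv]
      exact (mem_dd hu huN).1 ((hfixb x).1 ⟨Equiv.congr_fun (MonoidHom.mem_ker.1 hx) a₀,
        Equiv.congr_fun (MonoidHom.mem_ker.1 hx) b₀⟩) |>.2
    refine (Subgroup.eq_bot_iff_forall _).2 fun x hx => hKA x hx (mem_cent.2 ?_)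
    have htA : t ∈ cent t := mem_cent.2 (Commute.refl t)
    have h1 : x * t * x⁻¹ * t⁻¹ = 1 := hKA _
      (by rw [mul_assoc x t, mul_assoc x]
          exact K.mul_mem hx ((MonoidHom.normal_ker _).conj_mem _ (K.inv_mem hx) t))
      ((cent t).mul_mem (conj_mem H (hKN hx) htA) ((cent t).inv_mem htA))
    exact mul_inv_eq_iff_eq_mul.1 (mul_inv_eq_one.1 h1)
  haveI hfaith : FaithfulSMul G Ω :=
    ⟨fun {g k} hgk => (MonoidHom.ker_eq_bot_iff (toPermHom G Ω)).1 hker (Equiv.ext hgk)⟩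
  obtain ⟨k₀, hk₀, hk₀1⟩ := exists_dd_ne_one H hu huN
  have hZ : Cfsg.IsZassenhausGroup G Ω := by
    refine ⟨hfaith, h2, hthree, ⟨k₀, hk₀1, a₀, b₀, hab, ((hfixb k₀).2 hk₀).1, ((hfixb k₀).2 hk₀).2⟩,
      fun N hN htr => ?_⟩
    -- a transitive normal subgroup is not regular
    by_contra hno
    push Not at hno
    have hNH : ∀ n ∈ N, n ∈ nrm t → n = 1 := fun n hn hnN => by
      have h1 : (⟨n, hn⟩ : N) ∈ stabilizer N a₀ := (hfixa n).2 hnN
      exact congrArg Subtype.val (Subgroup.mem_bot.1 (le_of_eq (hno a₀) h1))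
    have hodd : ∀ n ∈ N, n * n = 1 → n = 1 := fun n hn hn2 => by
      by_contra hn1
      obtain ⟨g, hg⟩ := conj_exists H hn2 hn1
      exact H.t_ne (hNH t (hg ▸ hN.conj_mem n hn g) (cent_le_nrm t (mem_cent.2 (Commute.refl t))))
    have hA : ∀ a ∈ cent t, a * a = 1 → a ≠ 1 → ∀ n ∈ N, a * n * a = n⁻¹ := fun a ha ha2 ha1 => by
      have hai : a⁻¹ = a := inv_eq_of_mul_eq_one_right ha2
      refine inverts_of_fpf ha2 (fun n hn => by simpa [hai] using hN.conj_mem n hn a) fun n hn hf => ?_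
      refine hNH n hn (cent_le_nrm t (mem_of_commute H ha ha1 ?_))
      show n * a = a * n
      calc n * a = a * n * a * a := by rw [hf]
        _ = a * n := by rw [mul_assoc (a * n), ha2, mul_one]
    obtain ⟨m, hm, hmA⟩ : ∃ m ∈ nrm t, m ∉ cent t :=
      SetLike.not_le_iff_exists.1 fun hle => nrm_ne_cent H (le_antisymm hle (cent_le_nrm t))
    have htA : t ∈ cent t := mem_cent.2 (Commute.refl t)
    set s := m * t * m⁻¹ with hs
    have hsA : s ∈ cent t := conj_mem H hm htA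
    have hs2 : s * s = 1 := by
      rw [hs, show m * t * m⁻¹ * (m * t * m⁻¹) = m * (t * t) * m⁻¹ by group, H.t_sq, mul_one,
        mul_inv_cancel]
    have hst : t * s ≠ 1 := fun he => hmA (mem_cent.2 (by
      have he' : t = s := by rw [← mul_inv_eq_one, inv_eq_of_mul_eq_one_right hs2, he]
      exact mul_inv_eq_iff_eq_mul.1 he'.symm))
    obtain ⟨⟨n, hn⟩, he⟩ := htr.exists_smul_eq a₀ b₀
    refine hab (?_ : a₀ = b₀)
    suffices n = 1 by subst this; exact (one_smul G a₀).symm.trans he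
    refine hNH n hn (cent_le_nrm t (mem_of_commute H ((cent t).mul_mem htA hsA) hst ?_))
    have h1 := hA t htA H.t_sq H.t_ne
    have h2 := hA s hsA hs2 (fun e => H.t_ne (conj_eq_one_iff.1 e))
    have key : t * s * n * (t * s)⁻¹ = n := by
      rw [mul_inv_rev, inv_eq_of_mul_eq_one_right H.t_sq, inv_eq_of_mul_eq_one_right hs2,
        show t * s * n * (s * t) = t * (s * n * s) * t by group, h2 n hn, h1 _ (N.inv_mem hn), inv_inv]
    exact (mul_inv_eq_iff_eq_mul.1 key).symm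
  have hΩ : Fintype.card Ω = Nat.card (cent t) + 1 := by
    rw [← hidx, ← Nat.card_eq_fintype_card]
    rfl
  haveI : IsSimpleGroup G := ZassNormal.isSimpleGroup_of_odd hZ (by
    rw [hΩ]
    have h2' : orderOf (⟨t, mem_cent.2 (Commute.refl t)⟩ : cent t) = 2 := by
      rw [Subgroup.orderOf_mk]
      exact orderOf_eq_prime (by rw [pow_two]; exact H.t_sq) H.t_ne
    exact (even_iff_two_dvd.2 (h2' ▸ orderOf_dvd_natCard _)).add_one)
  have hU : Zass.IsKernel a₀ (cent t) := by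
    refine ⟨fun x hx => mem_stabilizer_iff.2 ((hfixa x).2 (cent_le_nrm t hx)), hΩ.symm, ?_⟩
    intro x hx hx1 c hc
    by_contra hca
    obtain ⟨α, hα, rfl⟩ := hcov' c hca
    rw [hb₀, hsmul α u, hfixx, show (α * u)⁻¹ * x * (α * u) = u⁻¹ * (α⁻¹ * x * α) * u by group,
      huinv] at hc
    have h1 := eq_one_of_conj H huN ((cent t).mul_mem ((cent t).mul_mem ((cent t).inv_mem hα) hx) hα)
      (by rwa [huinv])
    exact hx1 (by simpa [mul_assoc] using congrArg (fun y => α * y * α⁻¹) h1)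
  have htwo : ∀ g : G, g ∈ Zass.two G a₀ b₀ ↔ g ∈ dd t u := fun g => hfixb g
  set i := (cent t).relIndex (nrm t) with hi
  have hT : Nat.card ↥(Zass.two G a₀ b₀) = i := by
    rw [← show Nat.card (dd t u) = i from (fibres H).1 u hu huN]
    exact Nat.card_congr (Equiv.subtypeEquivRight htwo)
  exact ⟨inferInstance, hZ, by rw [Nat.card_eq_fintype_card]; exact hΩ, fun {inst} => by convert hU, b₀, hab, hT⟩

theorem psl_of_data {G : Type*} [Group G] [Finite G] {t : G} (H : Data G t)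
    (hnorm : ∀ y ∈ cent t, y ≠ 1 → ∀ n ∈ nrm t, ∀ x ∈ cent y, n * x * n⁻¹ ∈ cent y) :
    IsSimpleGroup G ∧
      ∃ (F : Type) (_ : Field F) (_ : Fintype F) (f : ℕ), 2 ≤ f ∧ Fintype.card F = 2 ^ f ∧
        Nat.card (cent t) = 2 ^ f ∧
        Nonempty (G ≃* Matrix.ProjectiveSpecialLinearGroup (Fin 2) F) := by
  classical
  obtain ⟨hsimple, hZ, hΩ, hU', b, hab, hT⟩ := zassenhaus H
  haveI := hsimple
  refine ⟨hsimple, ?_⟩
  have hsame : ∀ {x : G}, x ∈ cent t → x * x = 1 → x ≠ 1 → cent x = cent t := by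
    intro x hx hx2 hx1
    obtain ⟨g, hg⟩ := conj_exists H hx2 hx1
    exact Subgroup.eq_of_le_of_card_ge (H.sub x hx hx1) (card_cent_of_sq H hg).ge
  -- it suffices that `C(t)` be abelian
  suffices hcomm : ∀ x ∈ cent t, ∀ y ∈ cent t, Commute x y by
    have hD : CA.Data G t :=
      { inv := fun x hx hx1 a ha c hc => by
          obtain ⟨g, hg⟩ := conj_exists H hx hx1
          have := hcomm _ (hg ▸ conj_mem_cent.2 ha) _ (hg ▸ conj_mem_cent.2 hc)
          exact (Commute.conj_iff g).1 this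
        self := fun a ha ha1 => le_antisymm (H.sub a ha ha1)
          fun x hx => mem_cent.2 (hcomm x hx a ha)
        t_ne := H.t_ne
        t_sq := H.t_sq
        sylow := H.sylow.imp fun S hS => ⟨hS, by
          have hT : IsPGroup 2 (Subgroup.zpowers t) := IsPGroup.of_card (n := 1) (by
            rw [Nat.card_zpowers, pow_one]
            exact orderOf_eq_prime (by rw [pow_two]; exact H.t_sq) H.t_ne)
          have hle : (S : Subgroup G) ≤ Subgroup.normalizer (Subgroup.zpowers t : Set G) :=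
            fun x hx => Subgroup.mem_normalizer_iff.2 fun y => by
              have hc : Commute x t := mem_cent.1 (hS hx)
              constructor
              · rintro ⟨k, rfl⟩
                exact ⟨k, by show t ^ k = x * t ^ k * x⁻¹; rw [(hc.zpow_right k).eq, mul_inv_cancel_right]⟩
              · rintro ⟨k, hk⟩
                refine ⟨k, ?_⟩
                change t ^ k = x * y * x⁻¹ at hk
                show t ^ k = y
                calc t ^ k = x⁻¹ * (t ^ k * x) := by rw [← (hc.zpow_right k).eq, inv_mul_cancel_left]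
                  _ = y := by rw [hk]; group
          have heq := S.3 (IsPGroup.to_sup_of_normal_right' S.2 hT hle) le_sup_left
          exact heq.le (Subgroup.mem_sup_right (Subgroup.mem_zpowers t))⟩
        ne_top := H.ne_top
        ne_cent := H.ne_cent }
    exact (CA.psl_of_data hD).2
  haveI := Fintype.ofFinite G
  haveI := Fintype.ofFinite (G ⧸ nrm t)
  have hU : Zass.IsKernel (QuotientGroup.mk 1 : G ⧸ nrm t) (cent t) := hU'
  by_contra hna
  push Not at hna
  obtain ⟨x, hx, y, hy, hxy⟩ := hna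
  have hna' : ∃ u v : cent t, u * v ≠ v * u :=
    ⟨⟨x, hx⟩, ⟨y, hy⟩, fun h => hxy (congrArg Subtype.val h)⟩
  -- `C(t)` is a `2`-group
  have hodd : Odd (Nat.card ↥(Zass.two G (QuotientGroup.mk 1 : G ⧸ nrm t) b)) := by
    rw [hT]
    obtain ⟨S, hS⟩ := H.sylow
    refine Nat.odd_iff.2 (Nat.two_dvd_ne_zero.1 fun hd => ?_)
    haveI : Fact (Nat.Prime 2) := ⟨Nat.prime_two⟩
    refine S.not_dvd_index (dvd_trans ?_ (Subgroup.index_dvd_of_le hS))
    rw [← Subgroup.relIndex_mul_index (cent_le_nrm t)]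
    exact dvd_mul_of_dvd_left hd _
  obtain ⟨p, k, hp, hk, hpk⟩ := (ZassNormal.isPrimePow_kernel hZ hab hU hodd)
  have hp2 : p = 2 := by
    have h2 : 2 ∣ Nat.card (cent t) := by
      have h2' : orderOf (⟨t, mem_cent.2 (Commute.refl t)⟩ : cent t) = 2 := by
        rw [Subgroup.orderOf_mk]
        exact orderOf_eq_prime (by rw [pow_two]; exact H.t_sq) H.t_ne
      exact h2' ▸ orderOf_dvd_natCard _
    rw [← hpk] at h2
    exact ((Nat.prime_dvd_prime_iff_eq Nat.prime_two hp.nat_prime).1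
      (Nat.prime_two.dvd_of_dvd_pow h2)).symm
  subst hp2
  have h2M : IsPGroup 2 (cent t) := IsPGroup.of_card hpk.symm
  obtain ⟨m, -, -, htwo, hsq, hz, -⟩ := ZassNormal.TwoKer.numerics hZ hab hU h2M hna'
  set n := 2 * m + 1 with hn
  rw [hT] at htwo
  rw [hz, ← pow_mul] at hsq
  -- the centraliser of a non-central element
  obtain ⟨w, hwz⟩ : ∃ w : cent t, w ∉ Subgroup.center (cent t) :=
    ⟨⟨x, hx⟩, fun h => hxy (congrArg Subtype.val (Subgroup.mem_center_iff.1 h ⟨y, hy⟩)).symm⟩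
  have hw1 : (w : G) ≠ 1 := fun h => hwz (by
    rw [show w = 1 from Subtype.ext h]; exact Subgroup.one_mem _)
  have hle : cent (w : G) ≤ cent t := H.sub _ w.2 hw1
  have hi := relIndex_dvd_of_invariant H hle (hnorm _ w.2 hw1)
  obtain ⟨j, hj, hjc⟩ := (Nat.dvd_prime_pow Nat.prime_two).1
    (hsq ▸ Subgroup.card_dvd_of_le hle : Nat.card (cent (w : G)) ∣ 2 ^ (n * 2))
  have hlt : 2 ^ n < 2 ^ j := by
    rw [← hjc, ← hz, ← Subgroup.card_map_of_injective (cent t).subtype_injective (K := Subgroup.center (cent t))]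
    refine lt_of_le_of_ne (Subgroup.card_le_of_le ?_) fun he => hwz ?_
    · rintro _ ⟨z, hz', rfl⟩
      exact mem_cent.2 (congrArg Subtype.val (Subgroup.mem_center_iff.1 hz' w)).symm
    · have heq := Subgroup.eq_of_le_of_card_ge (K := cent (w : G)) (by
        rintro _ ⟨z, hz', rfl⟩
        exact mem_cent.2 (congrArg Subtype.val (Subgroup.mem_center_iff.1 hz' w)).symm) he.ge
      obtain ⟨z, hz', hzw⟩ := heq.ge (mem_cent.2 (Commute.refl (w : G)))
      rwa [show w = z from Subtype.ext hzw.symm]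
  have hnj : n ∣ j := by
    have h1 : 2 ^ n - 1 ∣ 2 ^ j - 1 := by
      rw [← hjc, show 2 ^ n - 1 = (cent t).relIndex (nrm t) by omega]; exact hi
    have h2 := Nat.gcd_eq_left h1
    rw [Nat.pow_sub_one_gcd_pow_sub_one] at h2
    have h3 : 2 ^ Nat.gcd n j = 2 ^ n := by
      have := Nat.one_le_two_pow (n := Nat.gcd n j)
      have := Nat.one_le_two_pow (n := n)
      omega
    exact (Nat.pow_right_injective le_rfl h3) ▸ Nat.gcd_dvd_right n j
  have hjn : j = n * 2 := by
    have hnlt := (Nat.pow_lt_pow_iff_right (by norm_num : 1 < 2)).1 hlt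
    obtain ⟨c, rfl⟩ := hnj
    rcases c with _ | _ | _ | c
    · omega
    · omega
    · rfl
    · have : n * (c + 3) ≤ n * 2 := hj
      nlinarith
  refine hwz (Subgroup.mem_center_iff.2 fun v => Subtype.ext ?_)
  have heq : cent (w : G) = cent t :=
    Subgroup.eq_of_le_of_card_ge hle (by rw [hjc, hjn, hsq])
  exact (mem_cent.1 (heq.ge v.2)).eq

end Cfsg.Agent.CharDeep.CC
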