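import Cfsg.Agent.CharDeep.CC.Invol
import Cfsg.Agent.S0001

/-!
Simple CA-groups: counting involutions gives double transitivity on the conjugates of `C(t)`.
-/

set_option autoImplicit false

open scoped Pointwise

namespace Cfsg.Agent.CharDeep.CC

open CA (cent nrm dd mem_cent conj_mem_cent card_cent_conj inverts_of_fpf cent_le_nrm)

variable {G : Type*} [Group G] [Finite G] {t : G}

theorem card_inv (H : Data G t) :
    Nat.card {x : G // x * x = 1 ∧ x ≠ 1} = (cent t).index := by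
  symm
  have hinv : ∀ g : G, (g * t * g⁻¹) * (g * t * g⁻¹) = 1 ∧ g * t * g⁻¹ ≠ 1 := fun g =>
    ⟨by rw [show g * t * g⁻¹ * (g * t * g⁻¹) = g * (t * t) * g⁻¹ by group, H.t_sq, mul_one,
      mul_inv_cancel], by simpa using H.t_ne⟩
  let f : G ⧸ cent t → {x : G // x * x = 1 ∧ x ≠ 1} := fun q =>
    ⟨q.out * t * q.out⁻¹, hinv _⟩
  refine Nat.card_congr (Equiv.ofBijective f ⟨fun p q h => ?_, fun x => ?_⟩)
  · have h' : p.out * t * p.out⁻¹ = q.out * t * q.out⁻¹ := congrArg Subtype.val h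
    rw [← p.out_eq', ← q.out_eq', QuotientGroup.eq]
    refine mem_cent.2 ?_
    show p.out⁻¹ * q.out * t = t * (p.out⁻¹ * q.out)
    calc p.out⁻¹ * q.out * t = p.out⁻¹ * (q.out * t * q.out⁻¹) * q.out := by group
      _ = t * (p.out⁻¹ * q.out) := by rw [← h']; group
  · obtain ⟨g, hg⟩ := conj_exists H x.2.1 x.2.2
    obtain ⟨c, hc⟩ := QuotientGroup.mk_out_eq_mul (cent t) g⁻¹
    refine ⟨QuotientGroup.mk g⁻¹, Subtype.ext ?_⟩
    show _ * t * _⁻¹ = x.1
    rw [hc]
    have hct : (c : G) * t * (c : G)⁻¹ = t := by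
      rw [(mem_cent.1 c.2).eq, mul_inv_cancel_right]
    calc g⁻¹ * (c : G) * t * (g⁻¹ * (c : G))⁻¹ = g⁻¹ * ((c : G) * t * (c : G)⁻¹) * g := by group
      _ = g⁻¹ * (g * x.1 * g⁻¹) * g := by rw [hct, hg]
      _ = x.1 := by group

theorem card_inv_nrm (H : Data G t) :
    Nat.card {x : G // x * x = 1 ∧ x ≠ 1 ∧ x ∈ nrm t} = (cent t).relIndex (nrm t) := by
  symm
  have hinv : ∀ g ∈ nrm t, (g * t * g⁻¹) * (g * t * g⁻¹) = 1 ∧ g * t * g⁻¹ ≠ 1 ∧
      g * t * g⁻¹ ∈ nrm t := fun g hg =>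
    ⟨by rw [show g * t * g⁻¹ * (g * t * g⁻¹) = g * (t * t) * g⁻¹ by group, H.t_sq, mul_one,
      mul_inv_cancel], by simpa using H.t_ne,
      cent_le_nrm t (conj_mem H hg (mem_cent.2 (Commute.refl t)))⟩
  let f : nrm t ⧸ (cent t).subgroupOf (nrm t) → {x : G // x * x = 1 ∧ x ≠ 1 ∧ x ∈ nrm t} := fun q =>
    ⟨(q.out : G) * t * (q.out : G)⁻¹, hinv _ q.out.2⟩
  refine Nat.card_congr (Equiv.ofBijective f ⟨fun p q h => ?_, fun x => ?_⟩)
  · have h' : (p.out : G) * t * (p.out : G)⁻¹ = (q.out : G) * t * (q.out : G)⁻¹ :=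
      congrArg Subtype.val h
    rw [← p.out_eq', ← q.out_eq', QuotientGroup.eq, Subgroup.mem_subgroupOf]
    refine mem_cent.2 ?_
    show (p.out : G)⁻¹ * (q.out : G) * t = t * ((p.out : G)⁻¹ * (q.out : G))
    calc (p.out : G)⁻¹ * (q.out : G) * t
        = (p.out : G)⁻¹ * ((q.out : G) * t * (q.out : G)⁻¹) * (q.out : G) := by group
      _ = t * ((p.out : G)⁻¹ * (q.out : G)) := by rw [← h']; group
  · obtain ⟨g, hg⟩ := conj_exists H x.2.1 x.2.2.1
    have hgN : g ∈ nrm t := cent_conj_eq H (sq_mem_cent H x.2.1 x.2.2.2) x.2.2.1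
      (by rw [hg]; exact mem_cent.2 (Commute.refl t))
    obtain ⟨c, hc⟩ := QuotientGroup.mk_out_eq_mul ((cent t).subgroupOf (nrm t))
      (⟨g⁻¹, (nrm t).inv_mem hgN⟩ : nrm t)
    refine ⟨QuotientGroup.mk ⟨g⁻¹, (nrm t).inv_mem hgN⟩, Subtype.ext ?_⟩
    show ((_ : nrm t) : G) * t * ((_ : nrm t) : G)⁻¹ = x.1
    rw [hc]
    have hct : ((c : nrm t) : G) * t * ((c : nrm t) : G)⁻¹ = t := by
      rw [(mem_cent.1 (Subgroup.mem_subgroupOf.1 c.2)).eq, mul_inv_cancel_right]
    simp only [Subgroup.coe_mul]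
    calc g⁻¹ * ((c : nrm t) : G) * t * (g⁻¹ * ((c : nrm t) : G))⁻¹
        = g⁻¹ * (((c : nrm t) : G) * t * ((c : nrm t) : G)⁻¹) * g := by group
      _ = g⁻¹ * (g * x.1 * g⁻¹) * g := by rw [hct, hg]
      _ = x.1 := by group

/-- Involutions outside `N`. -/
abbrev Out (t : G) := {x : G // x * x = 1 ∧ x ∉ nrm t}

theorem card_out (H : Data G t) :
    Nat.card (Out t) + (cent t).relIndex (nrm t) =
      (cent t).relIndex (nrm t) * (nrm t).index := by
  classical
  haveI := Fintype.ofFinite G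
  rw [Subgroup.relIndex_mul_index (cent_le_nrm t), ← card_inv H, ← card_inv_nrm H]
  simp only [Nat.card_eq_fintype_card, Fintype.card_subtype]
  rw [← Finset.card_union_of_disjoint]
  · congr 1
    ext x
    simp only [Finset.mem_union, Finset.mem_filter, Finset.mem_univ, true_and]
    constructor
    · rintro (⟨h1, h2⟩ | ⟨h1, h2, -⟩)
      · exact ⟨h1, fun h => h2 (h ▸ Subgroup.one_mem _)⟩
      · exact ⟨h1, h2⟩
    · rintro ⟨h1, h2⟩
      by_cases h : x ∈ nrm t
      · exact Or.inr ⟨h1, h2, h⟩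
      · exact Or.inl ⟨h1, h⟩
  · rw [Finset.disjoint_left]
    intro x hx hx'
    simp only [Finset.mem_filter, Finset.mem_univ, true_and] at hx hx'
    exact hx.2 hx'.2.2

theorem mk_ne_one {x : G} (hx : x ∉ nrm t) :
    (QuotientGroup.mk x : G ⧸ nrm t) ≠ QuotientGroup.mk 1 := fun h => hx (by
  rw [QuotientGroup.eq, mul_one] at h
  simpa using (nrm t).inv_mem h)

/-- Every involution outside `N` has a two-coset stabiliser of order `|N : A|`, and every coset other
than `N` contains an involution. -/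
theorem fibres (H : Data G t) :
    (∀ u : G, u * u = 1 → u ∉ nrm t → Nat.card (dd t u) = (cent t).relIndex (nrm t)) ∧
    ∀ x : G, x ∉ nrm t → ∃ u : G, u * u = 1 ∧ u ∉ nrm t ∧
      (QuotientGroup.mk u : G ⧸ nrm t) = QuotientGroup.mk x := by
  classical
  haveI := Fintype.ofFinite G
  haveI := Fintype.ofFinite (G ⧸ nrm t)
  set i := (cent t).relIndex (nrm t) with hi
  let f : Out t → G ⧸ nrm t := fun v => QuotientGroup.mk v.1
  let F : G ⧸ nrm t → ℕ := fun c => (Finset.univ.filter fun v => f v = c).card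
  have hF : ∀ v : Out t, F (f v) ≤ Nat.card (dd t v.1) := fun v => by
    have hvinv : v.1⁻¹ = v.1 := inv_eq_of_mul_eq_one_right v.2.1
    have hw : ∀ w : Out t, f w = f v → v.1 * w.1 ∈ dd t v.1 := fun w hw => by
      have h1 : v.1 * w.1 ∈ nrm t := by
        have := QuotientGroup.eq.1 hw.symm
        rwa [hvinv] at this
      refine (mem_dd v.2.1 v.2.2).2 ⟨h1, ?_⟩
      rw [show v.1 * (v.1 * w.1) * v.1 = (v.1 * v.1) * (w.1 * v.1) by group, v.2.1, one_mul]
      have hwinv : w.1⁻¹ = w.1 := inv_eq_of_mul_eq_one_right w.2.1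
      have := (nrm t).inv_mem h1
      rwa [mul_inv_rev, hvinv, hwinv] at this
    rw [Nat.card_eq_fintype_card, ← Finset.card_univ]
    refine Finset.card_le_card_of_injOn
      (fun w => if h : f w = f v then ⟨v.1 * w.1, hw w h⟩ else 1) (fun w _ => Finset.mem_univ _) ?_
    intro w hw' w' hw'' he
    simp only [Finset.coe_filter, Finset.mem_univ, true_and, Set.mem_setOf_eq] at hw' hw''
    simp only [dif_pos hw', dif_pos hw'', Subtype.mk.injEq, mul_right_inj] at he
    exact Subtype.ext he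
  have hle : ∀ c ∈ (Finset.univ.erase (QuotientGroup.mk 1 : G ⧸ nrm t)), F c ≤ i := fun c _ => by
    by_cases h : (Finset.univ.filter fun v => f v = c).Nonempty
    · obtain ⟨v, hv⟩ := h
      rw [← (Finset.mem_filter.1 hv).2]
      exact (hF v).trans (card_dd_le H v.2.1 v.2.2)
    · simp [F, Finset.not_nonempty_iff_eq_empty.1 h]
  have htot : ∑ c ∈ Finset.univ.erase (QuotientGroup.mk 1 : G ⧸ nrm t), F c =
      ∑ _c ∈ Finset.univ.erase (QuotientGroup.mk 1 : G ⧸ nrm t), i := by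
    have h1 : Fintype.card (Out t) =
        ∑ c ∈ Finset.univ.erase (QuotientGroup.mk 1 : G ⧸ nrm t), F c :=
      Finset.card_eq_sum_card_fiberwise fun v _ =>
        Finset.mem_coe.2 (Finset.mem_erase.2 ⟨mk_ne_one v.2.2, Finset.mem_univ _⟩)
    rw [← h1, Finset.sum_const, smul_eq_mul, Finset.card_erase_of_mem (Finset.mem_univ _),
      Finset.card_univ, ← Nat.card_eq_fintype_card, ← Nat.card_eq_fintype_card]
    have h3 := card_out H
    rw [← hi] at h3
    show _ = ((nrm t).index - 1) * i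
    rw [Nat.sub_mul, one_mul, mul_comm ((nrm t).index) i]
    omega
  have heq := (Finset.sum_eq_sum_iff_of_le hle).1 htot
  refine ⟨fun u hu huN => le_antisymm (card_dd_le H hu huN) ?_, fun x hx => ?_⟩
  · rw [← heq _ (Finset.mem_erase.2 ⟨mk_ne_one huN, Finset.mem_univ _⟩)]
    exact hF ⟨u, hu, huN⟩
  · have h := heq _ (Finset.mem_erase.2 ⟨mk_ne_one hx, Finset.mem_univ _⟩)
    have hpos : 0 < i := by have := two_le_relIndex H; omega
    obtain ⟨v, hv⟩ := Finset.card_pos.1 (h.symm ▸ hpos : 0 < F (QuotientGroup.mk x))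
    exact ⟨v.1, v.2.1, v.2.2, (Finset.mem_filter.1 hv).2⟩

theorem mem_dd_conj (H : Data G t) {n v : G} (hn : n ∈ nrm t) (hv : v * v = 1) (hvN : v ∉ nrm t)
    {d : G} : d ∈ dd t (n * v * n⁻¹) ↔ n⁻¹ * d * n ∈ dd t v := by
  have hv' : (n * v * n⁻¹) * (n * v * n⁻¹) = 1 := by
    rw [show n * v * n⁻¹ * (n * v * n⁻¹) = n * (v * v) * n⁻¹ by group, hv, mul_one, mul_inv_cancel]
  have hvN' : n * v * n⁻¹ ∉ nrm t := fun h => hvN (by
    have := (nrm t).mul_mem ((nrm t).mul_mem ((nrm t).inv_mem hn) h) hn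
    simpa [mul_assoc] using this)
  rw [mem_dd hv' hvN', mem_dd hv hvN]
  have key : ∀ y : G, n⁻¹ * y * n ∈ nrm t ↔ y ∈ nrm t := fun y => by
    rw [Subgroup.mul_mem_cancel_right _ hn, Subgroup.mul_mem_cancel_left _ ((nrm t).inv_mem hn)]
  rw [key, show v * (n⁻¹ * d * n) * v = n⁻¹ * ((n * v * n⁻¹) * d * (n * v * n⁻¹)) * n by group, key]

theorem exists_conj_dd (H : Data G t) {u v : G} (hu : u * u = 1) (huN : u ∉ nrm t)
    (hv : v * v = 1) (hvN : v ∉ nrm t) :
    ∃ n ∈ cent t, ∀ d, d ∈ dd t u ↔ n * d * n⁻¹ ∈ dd t v := by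
  classical
  set N := nrm t
  haveI : ((cent t).subgroupOf N).Normal := Subgroup.normal_in_normalizer
  have hA : Nat.card ((cent t).subgroupOf N) = Nat.card (cent t) :=
    Nat.card_congr (Subgroup.subgroupOfEquivOfLe (cent_le_nrm t)).toEquiv
  have hcompl : ∀ w : G, w * w = 1 → w ∉ N →
      Subgroup.IsComplement' ((cent t).subgroupOf N) ((dd t w).subgroupOf N) := fun w hw hwN => by
    refine Subgroup.isComplement'_of_card_mul_and_disjoint ?_ ?_
    · rw [← Subgroup.card_mul_index ((cent t).subgroupOf N)]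
      congr 1
      rw [Nat.card_congr (Subgroup.subgroupOfEquivOfLe (inf_le_left : dd t w ≤ N)).toEquiv]
      exact (fibres H).1 w hw hwN
    · rw [Subgroup.disjoint_def]
      intro x hx hx'
      exact Subtype.ext (dd_inf_cent H hw hwN (Subgroup.mem_subgroupOf.1 hx')
        (Subgroup.mem_subgroupOf.1 hx))
  have hsolv : Group.IsSolvable (↥N ⧸ (cent t).subgroupOf N) := by
    refine isSolvable_of_comm fun a b => ?_
    obtain ⟨a, rfl⟩ := QuotientGroup.mk_surjective a
    obtain ⟨b, rfl⟩ := QuotientGroup.mk_surjective b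
    obtain ⟨⟨⟨a₁, ha₁⟩, ⟨a₂, ha₂⟩⟩, rfl⟩ := (hcompl u hu huN).2 a
    obtain ⟨⟨⟨b₁, hb₁⟩, ⟨b₂, hb₂⟩⟩, rfl⟩ := (hcompl u hu huN).2 b
    set π := QuotientGroup.mk' ((cent t).subgroupOf N)
    show π (a₁ * a₂) * π (b₁ * b₂) = π (b₁ * b₂) * π (a₁ * a₂)
    rw [map_mul, map_mul, show π a₁ = 1 from (QuotientGroup.eq_one_iff a₁).2 ha₁,
      show π b₁ = 1 from (QuotientGroup.eq_one_iff b₁).2 hb₁, one_mul, one_mul, ← map_mul, ← map_mul]
    refine congrArg _ (Subtype.ext ?_)
    have h1 := Subgroup.mem_subgroupOf.1 ha₂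
    have h2 := Subgroup.mem_subgroupOf.1 hb₂
    have h3 := inverts_dd H hu huN _ ((dd t u).mul_mem h1 h2)
    rw [show u * ((a₂ : G) * b₂) * u = (u * a₂ * u) * (u * b₂ * u) by
      calc u * ((a₂ : G) * b₂) * u = u * a₂ * (u * u) * (b₂ * u) := by rw [hu]; group
        _ = (u * a₂ * u) * (u * b₂ * u) := by group, inverts_dd H hu huN _ h1,
      inverts_dd H hu huN _ h2, ← mul_inv_rev, inv_inj] at h3
    exact h3.symm
  obtain ⟨n₀, he₀⟩ := S0001.result ((cent t).subgroupOf N) (by rw [hA]; exact coprime_relIndex H)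
    (Or.inr hsolv) _ _ (hcompl u hu huN) (hcompl v hv hvN)
  -- replace the conjugating element by one of `C(t)`
  obtain ⟨⟨⟨n, hn⟩, ⟨m, hm⟩⟩, hnm⟩ := (hcompl u hu huN).2 n₀
  have he : MulAut.conj n • (dd t u).subgroupOf N = (dd t v).subgroupOf N := by
    rw [← he₀, ← hnm, map_mul, mul_smul]
    congr 1
    exact (Subgroup.conj_smul_eq_self_of_mem hm).symm
  refine ⟨n, Subgroup.mem_subgroupOf.1 hn, fun d => ?_⟩
  constructor
  · intro hd
    have h1 : MulAut.conj n • (⟨d, hd.1⟩ : N) ∈ (dd t v).subgroupOf N := by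
      rw [← he]; exact Subgroup.smul_mem_pointwise_smul _ _ _ hd
    exact h1
  · intro hd
    have hdN : d ∈ N := by
      have := N.mul_mem (N.mul_mem (N.inv_mem n.2) hd.1) n.2
      simpa [mul_assoc] using this
    have h1 : (MulAut.conj n • (⟨d, hdN⟩ : N)) ∈ MulAut.conj n • (dd t u).subgroupOf N := by
      rw [he]; exact hd
    have h2 := Subgroup.smul_mem_pointwise_smul_iff.1 h1
    exact h2

theorem exists_dd_ne_one (H : Data G t) {u : G} (hu : u * u = 1) (huN : u ∉ nrm t) :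
    ∃ k ∈ dd t u, k ≠ 1 := by
  obtain ⟨x, hx⟩ := Finite.one_lt_card_iff_nontrivial.1
    (show 1 < Nat.card (dd t u) by
      rw [(fibres H).1 u hu huN]; exact lt_of_lt_of_le one_lt_two (two_le_relIndex H))
    |>.exists_pair_ne |>.imp fun x => id
  obtain ⟨y, hxy⟩ := hx
  by_cases h : (x : G) = 1
  · exact ⟨y, y.2, fun hy => hxy (Subtype.ext (h.trans hy.symm))⟩
  · exact ⟨x, x.2, h⟩

theorem sylow_le_cent (H : Data G t) {q : ℕ} [Fact q.Prime] (hq : q ∣ Nat.card (cent t)) :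
    ∃ Q : Sylow q G, (Q : Subgroup G) ≤ cent t := by
  obtain ⟨x, hx⟩ := exists_prime_orderOf_dvd_card' (G := cent t) q hq
  have hxo : orderOf (x : G) = q := by rw [Subgroup.orderOf_coe, hx]
  have hx1 : (x : G) ≠ 1 := fun h => by
    rw [h, orderOf_one] at hxo
    exact (Fact.out : q.Prime).ne_one hxo.symm
  obtain ⟨Q, hQ⟩ := (IsPGroup.of_card (p := q) (n := 1) (G := Subgroup.zpowers (x : G))
    (by rw [Nat.card_zpowers, hxo, pow_one])).exists_le_sylow
  have hxQ : (x : G) ∈ (Q : Subgroup G) := hQ (Subgroup.mem_zpowers _)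
  haveI : Nontrivial (Q : Subgroup G) := ⟨⟨⟨x, hxQ⟩, 1, fun h => hx1 (congrArg Subtype.val h)⟩⟩
  haveI := Q.2.center_nontrivial
  obtain ⟨z, hz⟩ := exists_ne (1 : Subgroup.center (Q : Subgroup G))
  have hz1 : ((z : Q) : G) ≠ 1 := fun h => hz (Subtype.ext (Subtype.ext h))
  have hzA : ((z : Q) : G) ∈ cent t := by
    refine H.sub _ x.2 hx1 ?_
    exact mem_cent.2 (congrArg Subtype.val (Subgroup.mem_center_iff.1 z.2 ⟨x, hxQ⟩)).symm
  refine ⟨Q, fun y hy => ?_⟩
  refine H.sub _ hzA hz1 ?_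
  exact mem_cent.2 (congrArg Subtype.val (Subgroup.mem_center_iff.1 z.2 ⟨y, hy⟩))

/-- The result of the counting: the normaliser has index `|A| + 1` and acts with a regular `A`. -/
theorem main (H : Data G t) :
    (nrm t).index = Nat.card (cent t) + 1 ∧
    ∃ u : G, u * u = 1 ∧ u ∉ nrm t ∧
      (∀ x : G, x ∉ nrm t → ∃ α ∈ cent t,
        (QuotientGroup.mk x : G ⧸ nrm t) = QuotientGroup.mk (α * u)) ∧
      ∀ α ∈ cent t, ∀ k, k ∈ dd t u → α⁻¹ * k * α ∈ dd t u → k ≠ 1 → α = 1 := by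
  classical
  obtain ⟨x₀, hx₀⟩ : ∃ x : G, x ∉ nrm t := by
    by_contra h
    push Not at h
    exact nrm_ne_top H (eq_top_iff.2 fun x _ => h x)
  obtain ⟨u, hu, huN, -⟩ := (fibres H).2 x₀ hx₀
  have huinv : u⁻¹ = u := inv_eq_of_mul_eq_one_right hu
  obtain ⟨k, hk, hk1⟩ := exists_dd_ne_one H hu huN
  have hkA : k ∉ cent t := fun h => hk1 (dd_inf_cent H hu huN hk h)
  have huk : u * k * u = k⁻¹ := inverts_dd H hu huN k hk
  set i := (cent t).relIndex (nrm t) with hi
  have hk2 : ∀ d ∈ dd t u, d * d = 1 → d = 1 := fun d hd h =>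
    dd_inf_cent H hu huN hd (sq_mem_cent H h hd.1)
  -- `B = C(k)` is inverted by `u`
  set B := cent k with hB
  have hBu : ∀ b ∈ B, u * b * u = b⁻¹ := by
    refine inverts_of_fpf hu (fun b hb => ?_) fun b hb hfix => ?_
    · have h1 : Commute (u * b * u⁻¹) (u * k * u⁻¹) := (Commute.conj_iff u).2 (mem_cent.1 hb)
      rw [huinv, huk] at h1
      exact mem_cent.2 (Commute.inv_right_iff.1 h1)
    · by_contra hb1
      have hub : Commute u b := by
        show u * b = b * u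
        calc u * b = u * b * u * u := by rw [mul_assoc (u * b) u u, hu, mul_one]
          _ = b * u := by rw [hfix]
      have h1 : Commute u k := by
        obtain ⟨g, hg⟩ := conj_exists H hu (fun h => huN (h ▸ Subgroup.one_mem _))
        have hgb : g * b * g⁻¹ ∈ cent t := by
          rw [← hg, conj_mem_cent]; exact mem_cent.2 hub.symm
        have hgk : g * k * g⁻¹ ∈ cent t := by
          refine H.sub _ hgb (by simpa using hb1) ?_
          rw [conj_mem_cent]
          exact mem_cent.2 (mem_cent.1 hb).symm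
        rw [← hg, conj_mem_cent] at hgk
        exact (mem_cent.1 hgk).symm
      refine hk1 (hk2 k hk ?_)
      rw [h1.eq, mul_assoc, hu, mul_one] at huk
      nth_rw 2 [huk]
      exact mul_inv_cancel k
  have hKB : dd t u ≤ B := fun d hd => by
    refine mem_cent.2 ?_
    show d * k = k * d
    have h := inverts_dd H hu huN _ ((dd t u).mul_mem hd hk)
    rw [show u * (d * k) * u = (u * d * u) * (u * k * u) by
      calc u * (d * k) * u = u * d * (u * u) * (k * u) := by rw [hu]; group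
        _ = (u * d * u) * (u * k * u) := by group, inverts_dd H hu huN d hd, huk, ← mul_inv_rev,
      inv_inj] at h
    exact h.symm
  -- the involutions `u b`
  have hv : ∀ b ∈ B, (u * b) * (u * b) = 1 := fun b hb => by
    rw [show u * b * (u * b) = (u * b * u) * b by group, hBu b hb, inv_mul_cancel]
  have hvk : ∀ b ∈ B, ∀ d ∈ dd t u, (u * b) * d * (u * b) = d⁻¹ := fun b hb d hd => by
    have hbd : Commute b d := by
      by_cases hd1 : d = 1
      · rw [hd1]; exact Commute.one_right b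
      have h3 := hBu _ (B.mul_mem hb (hKB hd))
      rw [show u * (b * d) * u = (u * b * u) * (u * d * u) by
        calc u * (b * d) * u = u * b * (u * u) * (d * u) := by rw [hu]; group
          _ = (u * b * u) * (u * d * u) := by group, hBu b hb, hBu d (hKB hd), ← mul_inv_rev, inv_inj] at h3
      exact h3.symm
    calc u * b * d * (u * b) = u * (d * b) * (u * b) := by rw [← hbd.eq]; group
      _ = u * d * (b * (u * b)) := by group
      _ = u * d * (u * ((u * b * u) * b)) := by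
        rw [show u * ((u * b * u) * b) = (u * u) * (b * (u * b)) by group, hu, one_mul]
      _ = d⁻¹ := by rw [hBu b hb, inv_mul_cancel, mul_one, inverts_dd H hu huN d hd]
  have hvN : ∀ b ∈ B, u * b ∉ nrm t := fun b hb hN => by
    have hA := sq_mem_cent H (hv b hb) hN
    have h1 : k * (u * b) * k⁻¹ * (u * b) ∈ cent t :=
      (cent t).mul_mem (conj_mem H hk.1 hA) hA
    rw [show k * (u * b) * k⁻¹ * (u * b) = k * ((u * b) * k⁻¹ * (u * b)) by group,
      hvk b hb _ ((dd t u).inv_mem hk), inv_inv] at h1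
    exact hk1 (hk2 k hk (dd_inf_cent H hu huN ((dd t u).mul_mem hk hk) h1))
  have hddv : ∀ b ∈ B, dd t (u * b) = dd t u := fun b hb => by
    refine (Subgroup.eq_of_le_of_card_ge (fun d hd => ?_) ?_).symm
    · exact (mem_dd (hv b hb) (hvN b hb)).2 ⟨hd.1, by
        rw [hvk b hb d hd]; exact (nrm t).inv_mem hd.1⟩
    · rw [(fibres H).1 u hu huN, (fibres H).1 _ (hv b hb) (hvN b hb)]
  have hsep : ∀ α ∈ cent t, ∀ d, d ∈ dd t u → α⁻¹ * d * α ∈ dd t u → d ≠ 1 → α = 1 := by
    intro α hα d hd hd' hd1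
    by_contra hα1
    have h1 : α⁻¹ * (d * α * d⁻¹) ∈ cent t :=
      (cent t).mul_mem ((cent t).inv_mem hα) (conj_mem H hd.1 hα)
    have h2 : α⁻¹ * (d * α * d⁻¹) = 1 := dd_inf_cent H hu huN (by
      rw [← mul_assoc, ← mul_assoc]; exact (dd t u).mul_mem hd' ((dd t u).inv_mem hd)) h1
    rw [inv_mul_eq_one] at h2
    exact hd1 (dd_inf_cent H hu huN hd (mem_of_commute H hα hα1 (mul_inv_eq_iff_eq_mul.1 h2.symm)))
  -- the parametrisation of the involutions outside `N`
  have hconjN : ∀ α ∈ cent t, ∀ b ∈ B, α * (u * b) * α⁻¹ ∉ nrm t := fun α hα b hb hN => hvN b hb (by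
    have := (nrm t).mul_mem ((nrm t).mul_mem ((nrm t).inv_mem (cent_le_nrm t hα)) hN)
      (cent_le_nrm t hα)
    simpa [mul_assoc] using this)
  let Φ : cent t × B → Out t := fun p => ⟨(p.1 : G) * (u * p.2) * (p.1 : G)⁻¹,
    by rw [show (p.1 : G) * (u * p.2) * (p.1 : G)⁻¹ * ((p.1 : G) * (u * p.2) * (p.1 : G)⁻¹)
      = (p.1 : G) * ((u * p.2) * (u * p.2)) * (p.1 : G)⁻¹ by group, hv _ p.2.2, mul_one,
      mul_inv_cancel], hconjN _ p.1.2 _ p.2.2⟩
  have hΦi : Function.Injective Φ := by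
    rintro ⟨α, b⟩ ⟨β, c⟩ h
    have h' : (α : G) * (u * b) * (α : G)⁻¹ = (β : G) * (u * c) * (β : G)⁻¹ :=
      congrArg Subtype.val h
    set γ := (β : G)⁻¹ * α with hγ
    have hγA : γ ∈ cent t := (cent t).mul_mem ((cent t).inv_mem β.2) α.2
    have h2 : γ * (u * b) * γ⁻¹ = u * c := by
      calc γ * (u * b) * γ⁻¹ = (β : G)⁻¹ * ((α : G) * (u * b) * (α : G)⁻¹) * β := by
            rw [hγ]; group
        _ = u * c := by rw [h']; group
    have h3 : γ⁻¹ * k * γ ∈ dd t u := by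
      rw [← hddv b b.2, ← mem_dd_conj H (cent_le_nrm t hγA) (hv _ b.2) (hvN _ b.2), h2, hddv c c.2]
      exact hk
    have hγ1 := hsep γ hγA k hk h3 hk1
    have hαβ : β = α := Subtype.ext (inv_mul_eq_one.1 hγ1)
    subst hαβ
    rw [hγ1, one_mul, inv_one, mul_one, mul_right_inj] at h2
    rw [Subtype.ext h2]
  have hΦs : Function.Surjective Φ := by
    rintro ⟨v, hv1, hv2⟩
    obtain ⟨n, hn, hnd⟩ := exists_conj_dd H hu huN hv1 hv2
    have hw : (n⁻¹ * v * n) * (n⁻¹ * v * n) = 1 := by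
      rw [show n⁻¹ * v * n * (n⁻¹ * v * n) = n⁻¹ * (v * v) * n by group, hv1, mul_one,
        inv_mul_cancel]
    have hwk : (n⁻¹ * v * n) * k * (n⁻¹ * v * n) = k⁻¹ := by
      calc (n⁻¹ * v * n) * k * (n⁻¹ * v * n) = n⁻¹ * (v * (n * k * n⁻¹) * v) * n := by group
        _ = n⁻¹ * (n * k * n⁻¹)⁻¹ * n := by rw [inverts_dd H hv1 hv2 _ ((hnd k).1 hk)]
        _ = k⁻¹ := by group
    have hb : u * (n⁻¹ * v * n) ∈ B := mem_cent.2 (by
      show u * (n⁻¹ * v * n) * k = k * (u * (n⁻¹ * v * n))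
      set w := n⁻¹ * v * n
      have h1 : w * k = k⁻¹ * w := by
        calc w * k = w * k * (w * w) := by rw [hw, mul_one]
          _ = k⁻¹ * w := by rw [← mul_assoc, hwk]
      have h2 : u * k⁻¹ = k * u := by
        calc u * k⁻¹ = u * (u * k * u) := by rw [huk]
          _ = (u * u) * (k * u) := by group
          _ = k * u := by rw [hu, one_mul]
      rw [mul_assoc, h1, ← mul_assoc, h2, mul_assoc])
    refine ⟨(⟨n, hn⟩, ⟨_, hb⟩), Subtype.ext ?_⟩
    show n * (u * (u * (n⁻¹ * v * n))) * n⁻¹ = v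
    rw [← mul_assoc u u, hu, one_mul]
    group
  -- the order of `B`
  have hcard : Nat.card (cent t) * Nat.card B + i = i * (nrm t).index := by
    rw [← card_out H, ← Nat.card_congr (Equiv.ofBijective Φ ⟨hΦi, hΦs⟩), Nat.card_prod]
  have hcop : (Nat.card B).Coprime (Nat.card (cent t)) := by
    refine Nat.coprime_of_dvd' fun q hq hqB hqA => absurd ?_ hkA
    haveI := Fact.mk hq
    obtain ⟨Q, hQ⟩ := sylow_le_cent H hqA
    obtain ⟨y, hy⟩ := exists_prime_orderOf_dvd_card' (G := B) q hqB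
    have hyo : orderOf (y : G) = q := by rw [Subgroup.orderOf_coe, hy]
    have hy1 : (y : G) ≠ 1 := fun h => by
      rw [h, orderOf_one] at hyo
      exact hq.ne_one hyo.symm
    obtain ⟨Q', hQ'⟩ := (IsPGroup.of_card (p := q) (n := 1) (G := Subgroup.zpowers (y : G))
      (by rw [Nat.card_zpowers, hyo, pow_one])).exists_le_sylow
    obtain ⟨g, hg⟩ := MulAction.exists_smul_eq G Q' Q
    have hgy : g * y * g⁻¹ ∈ cent t := hQ (by
      have h1 : MulAut.conj g • (y : G) ∈ MulAut.conj g • (Q' : Subgroup G) :=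
        Subgroup.smul_mem_pointwise_smul _ _ _ (hQ' (Subgroup.mem_zpowers _))
      have h2 : ((g • Q' : Sylow q G) : Subgroup G) = MulAut.conj g • (Q' : Subgroup G) :=
        Sylow.coe_subgroup_smul
      rw [← h2, hg] at h1
      simpa [MulAut.smul_def] using h1)
    have hgk : g * k * g⁻¹ ∈ cent t := by
      refine H.sub _ hgy (by simpa using hy1) ?_
      rw [conj_mem_cent]
      exact mem_cent.2 (mem_cent.1 y.2).symm
    refine mem_cent_of_pow H hk.1 ?_
    have := congrArg Subtype.val (pow_card_eq_one' (G := cent t) (x := ⟨_, hgk⟩))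
    simp only [SubgroupClass.coe_pow, OneMemClass.coe_one, conj_pow] at this
    exact conj_eq_one_iff.1 this
  have hBi : Nat.card B ∣ i := by
    have h1 : Nat.card B ∣ Nat.card (cent t) * (i * (nrm t).index) := by
      rw [hi, Subgroup.relIndex_mul_index (cent_le_nrm t), Subgroup.card_mul_index]
      exact Subgroup.card_subgroup_dvd_card B
    have h2 := hcop.dvd_of_dvd_mul_left h1
    rw [← hcard] at h2
    exact (Nat.dvd_add_right (dvd_mul_left _ _)).1 h2
  have hipos : 0 < i := by have := two_le_relIndex H; omega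
  have hBK : B = dd t u := (Subgroup.eq_of_le_of_card_ge hKB (by
    rw [(fibres H).1 u hu huN]; exact Nat.le_of_dvd hipos hBi)).symm
  refine ⟨?_, u, hu, huN, fun x hx => ?_, hsep⟩
  · rw [hBK, (fibres H).1 u hu huN, ← hi, mul_comm, ← mul_add_one] at hcard
    exact (Nat.eq_of_mul_eq_mul_left hipos hcard).symm
  · obtain ⟨v, hv1, hv2, hvx⟩ := (fibres H).2 x hx
    obtain ⟨⟨α, b⟩, hαb⟩ := hΦs ⟨v, hv1, hv2⟩
    refine ⟨α, α.2, ?_⟩
    rw [← hvx, show v = (α : G) * (u * b) * (α : G)⁻¹ from (congrArg Subtype.val hαb).symm,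
      QuotientGroup.eq]
    have hbN : (b : G) ∈ nrm t := (hBK ▸ b.2 : (b : G) ∈ dd t u).1
    have := (nrm t).mul_mem (cent_le_nrm t α.2) ((nrm t).inv_mem hbN)
    convert this using 1
    group

end Cfsg.Agent.CharDeep.CC
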