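import Cfsg.Agent.CharDeep.CA.Invol

/-!
An involution `t` whose centraliser contains the centraliser of each of its non-identity elements.
-/

set_option autoImplicit false

namespace Cfsg.Agent.CharDeep.CC

open CA (cent nrm dd mem_cent conj_mem_cent card_cent_conj inverts_of_fpf cent_le_nrm)

variable {G : Type*} [Group G]

/-- An involution with a Sylow `2`-subgroup in its centraliser `M`, where `M` contains the centraliser of
each of its non-identity elements and is neither normal nor self-normalising. -/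
structure Data (G : Type*) [Group G] (t : G) : Prop where
  sub : ∀ a ∈ cent t, a ≠ 1 → cent a ≤ cent t
  t_ne : t ≠ 1
  t_sq : t * t = 1
  sylow : ∃ S : Sylow 2 G, (S : Subgroup G) ≤ cent t
  ne_top : Subgroup.normalizer (cent t : Set G) ≠ ⊤
  ne_cent : Subgroup.normalizer (cent t : Set G) ≠ cent t

variable {t : G} (H : Data G t)
include H

theorem cent_conj_eq [Finite G] {g x : G} (hx : x ∈ cent t) (hx1 : x ≠ 1)
    (hgx : g * x * g⁻¹ ∈ cent t) : g ∈ nrm t := by
  have hs : g * t * g⁻¹ ∈ cent t := H.sub _ hgx (by simpa using hx1)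
    (mem_cent.2 ((Commute.conj_iff g).2 (mem_cent.1 hx).symm))
  have hle : cent (g * t * g⁻¹) ≤ cent t := H.sub _ hs (by simpa using H.t_ne)
  have heq : cent (g * t * g⁻¹) = cent t :=
    Subgroup.eq_of_le_of_card_ge hle (by rw [card_cent_conj])
  refine Subgroup.mem_normalizer_iff.2 fun y => ?_
  conv_rhs => rw [← heq]
  exact conj_mem_cent.symm

/-- `C_G(t)` is fixed-point-freely acted on by its normaliser. -/
theorem mem_of_commute {n a : G} (ha : a ∈ cent t) (ha1 : a ≠ 1) (hc : Commute n a) :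
    n ∈ cent t :=
  H.sub a ha ha1 (mem_cent.2 hc)

theorem conj_mem {n a : G} (hn : n ∈ nrm t) (ha : a ∈ cent t) : n * a * n⁻¹ ∈ cent t :=
  (Subgroup.mem_normalizer_iff.1 hn a).1 ha

theorem sq_mem_cent {x : G} (hx : x * x = 1) (hxN : x ∈ nrm t) [Finite G] : x ∈ cent t := by
  obtain ⟨S, hS⟩ := H.sylow
  haveI : ((cent t).subgroupOf (nrm t)).Normal := Subgroup.normal_in_normalizer
  have hodd : ¬ 2 ∣ (cent t).relIndex (nrm t) := fun hd => by
    haveI : Fact (Nat.Prime 2) := ⟨Nat.prime_two⟩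
    refine S.not_dvd_index ?_
    refine dvd_trans ?_ (Subgroup.index_dvd_of_le hS)
    rw [← Subgroup.relIndex_mul_index (cent_le_nrm t)]
    exact dvd_mul_of_dvd_left hd _
  set q : nrm t ⧸ (cent t).subgroupOf (nrm t) := QuotientGroup.mk ⟨x, hxN⟩ with hq
  have h2 : orderOf q ∣ 2 := orderOf_dvd_of_pow_eq_one (by
    rw [hq, ← QuotientGroup.mk_pow, pow_two, QuotientGroup.eq_one_iff, Subgroup.mem_subgroupOf]
    simp [hx])
  rcases (Nat.dvd_prime Nat.prime_two).1 h2 with h | h
  · rw [orderOf_eq_one_iff, hq, QuotientGroup.eq_one_iff, Subgroup.mem_subgroupOf] at h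
    exact h
  · exact absurd (h ▸ orderOf_dvd_natCard q) hodd

variable [Finite G]

omit [Finite G] in
theorem nrm_ne_cent : nrm t ≠ cent t := H.ne_cent

omit [Finite G] in
theorem nrm_ne_top : nrm t ≠ ⊤ := H.ne_top

theorem conj_exists {x : G} (hx : x * x = 1) (hx1 : x ≠ 1) : ∃ g : G, g * x * g⁻¹ = t := by
  by_contra hno
  have hkey : ∀ g : G, g * t * g⁻¹ ∈ cent x := by
    intro g
    obtain ⟨a, ha⟩ : ∃ a, a = g * t * g⁻¹ := ⟨_, rfl⟩
    rw [← ha]
    have ha2 : a * a = 1 := by
      rw [ha, show g * t * g⁻¹ * (g * t * g⁻¹) = g * (t * t) * g⁻¹ by group, H.t_sq, mul_one,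
        mul_inv_cancel]
    have hab : ¬ IsConj a x := fun hc =>
      hno (isConj_iff.1 ((isConj_iff.2 ⟨g, ha.symm⟩ : IsConj t a).trans hc).symm)
    set c := a * x with hc
    have hia : a⁻¹ = a := inv_eq_of_mul_eq_one_right ha2
    have hib : x⁻¹ = x := inv_eq_of_mul_eq_one_right hx
    have hac : a * c * a⁻¹ = c⁻¹ := by
      rw [hc, mul_inv_rev, hia, hib, ← mul_assoc, ha2, one_mul]
    have hbc : x * c * x⁻¹ = c⁻¹ := by
      rw [hc, mul_inv_rev, hia, hib, mul_assoc, mul_assoc, hx, mul_one]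
    have hev : Even (orderOf c) := by
      by_contra ho
      obtain ⟨m, hm⟩ := Nat.not_even_iff_odd.1 ho
      apply hab
      refine isConj_iff.2 ⟨c ^ m, ?_⟩
      have hp : c ^ m * c ^ m * c = 1 := by
        rw [← pow_add, ← pow_succ, ← two_mul, ← hm, pow_orderOf_eq_one]
      have ha' : a * (c ^ m)⁻¹ = c ^ m * a := by
        have hh : a * c ^ m * a⁻¹ = (c ^ m)⁻¹ := by rw [← conj_pow, hac, inv_pow]
        rw [← hh, hia]
        simp only [← mul_assoc, ha2, one_mul]
      calc c ^ m * a * (c ^ m)⁻¹ = c ^ m * (c ^ m * a) := by rw [mul_assoc, ha']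
        _ = (c ^ m * c ^ m * c) * (c⁻¹ * a) := by group
        _ = c⁻¹ * a := by rw [hp, one_mul]
        _ = x := by rw [hc, mul_inv_rev, hib, hia, mul_assoc, ha2, mul_one]
    obtain ⟨m, hm⟩ := hev
    have hcpos := orderOf_pos c
    set z := c ^ m with hz
    have hz1 : z ≠ 1 := pow_ne_one_of_lt_orderOf (by omega) (by omega)
    have hzinv : z⁻¹ = z := inv_eq_of_mul_eq_one_right (by
      rw [hz, ← pow_add, ← hm, pow_orderOf_eq_one])
    have hcomm : ∀ y : G, y * c * y⁻¹ = c⁻¹ → Commute y z := fun y hy => by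
      have h1 : y * z * y⁻¹ = z := by rw [hz, ← conj_pow, hy, inv_pow, ← hz, hzinv]
      calc y * z = y * z * y⁻¹ * y := by group
        _ = z * y := by rw [h1]
    have hzt : g⁻¹ * z * g ∈ cent t := mem_cent.2 (by
      have := (Commute.conj_iff g⁻¹).2 (hcomm a hac).symm
      simpa [ha, mul_assoc] using this)
    have hxt : g⁻¹ * x * g ∈ cent t := H.sub _ hzt
      (fun h => hz1 (by simpa [mul_assoc] using congrArg (fun y => g * y * g⁻¹) h)) (mem_cent.2 (by
      have := (Commute.conj_iff g⁻¹).2 (hcomm x hbc)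
      simpa [mul_assoc] using this))
    exact mem_cent.2 (by
      have := (Commute.conj_iff g).2 (mem_cent.1 hxt).symm
      simpa [ha, mul_assoc] using this)
  have hxA : x ∈ cent t := mem_cent.2 (by
    have := mem_cent.1 (hkey 1)
    simpa using this.symm)
  refine H.ne_top (eq_top_iff.2 fun g _ => ?_)
  exact cent_conj_eq H (mem_cent.2 (Commute.refl t)) H.t_ne (H.sub x hxA hx1 (hkey g))

omit [Finite G] in
theorem card_cent_of_sq {g x : G} (hg : g * x * g⁻¹ = t) : Nat.card (cent x) = Nat.card (cent t) := by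
  rw [← hg, card_cent_conj]

/-- `|N : A|`. -/
theorem two_le_relIndex : 2 ≤ (cent t).relIndex (nrm t) := by
  have h0 : (cent t).relIndex (nrm t) ≠ 0 := Subgroup.index_ne_zero_of_finite
  have h1 : (cent t).relIndex (nrm t) ≠ 1 := fun h =>
    nrm_ne_cent H (le_antisymm (Subgroup.relIndex_eq_one.1 h) (cent_le_nrm t))
  omega

theorem relIndex_dvd_of_invariant {C : Subgroup G} (hC : C ≤ cent t)
    (hinvC : ∀ n ∈ nrm t, ∀ x ∈ C, n * x * n⁻¹ ∈ C) :
    (cent t).relIndex (nrm t) ∣ Nat.card C - 1 := by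
  classical
  let N := nrm t
  let X := {x : G // x ∈ C ∧ x ≠ 1}
  letI : MulAction N X :=
    { smul := fun n x => ⟨(n : G) * x.1 * (n : G)⁻¹, hinvC n n.2 x.1 x.2.1, by simpa using x.2.2⟩
      one_smul := fun x => Subtype.ext (by show ((1 : N) : G) * x.1 * ((1 : N) : G)⁻¹ = x.1; simp)
      mul_smul := fun m n x => Subtype.ext (by
        show ((m * n : N) : G) * x.1 * ((m * n : N) : G)⁻¹ = (m : G) * ((n : G) * x.1 * (n : G)⁻¹) * (m : G)⁻¹
        simp [mul_assoc]) }
  have hst : ∀ x : X, MulAction.stabilizer N x ≤ (cent t).subgroupOf N := fun x n hn => by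
    rw [Subgroup.mem_subgroupOf]
    have h' : (n : G) * x.1 * (n : G)⁻¹ = x.1 := congrArg Subtype.val hn
    exact mem_of_commute H (hC x.2.1) x.2.2 (mul_inv_eq_iff_eq_mul.1 h')
  have hX : Nat.card X = Nat.card C - 1 := by
    haveI := Fintype.ofFinite G
    rw [Nat.card_eq_fintype_card, Nat.card_eq_fintype_card, Fintype.card_subtype,
      Fintype.card_subtype, show (Finset.univ.filter fun x : G => x ∈ C ∧ x ≠ 1) =
        (Finset.univ.filter fun x : G => x ∈ C).erase 1 by ext y; simp [and_comm],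
      Finset.card_erase_of_mem (by simp)]
  haveI : Fintype (Quotient (MulAction.orbitRel N X)) := Fintype.ofFinite _
  rw [← hX, Nat.card_congr (MulAction.selfEquivSigmaOrbitsQuotientStabilizer N X), Nat.card_sigma]
  exact Finset.dvd_sum fun w _ => Subgroup.index_dvd_of_le (hst _)

theorem relIndex_dvd : (cent t).relIndex (nrm t) ∣ Nat.card (cent t) - 1 :=
  relIndex_dvd_of_invariant H le_rfl fun _ hn _ hx => conj_mem H hn hx

theorem coprime_relIndex : (Nat.card (cent t)).Coprime ((cent t).relIndex (nrm t)) := by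
  obtain ⟨k, hk⟩ := relIndex_dvd H
  have hpos : 0 < Nat.card (cent t) := Nat.card_pos
  refine Nat.coprime_of_dvd' fun q hq hqa hqi => ?_
  rw [show Nat.card (cent t) = (cent t).relIndex (nrm t) * k + 1 by omega] at hqa
  exact (Nat.dvd_add_right (dvd_mul_of_dvd_left hqi k)).1 hqa

theorem mem_cent_of_pow {x : G} (hxN : x ∈ nrm t) (hx : x ^ Nat.card (cent t) = 1) :
    x ∈ cent t := by
  haveI : ((cent t).subgroupOf (nrm t)).Normal := Subgroup.normal_in_normalizer
  set q : nrm t ⧸ (cent t).subgroupOf (nrm t) := QuotientGroup.mk ⟨x, hxN⟩ with hq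
  have h1 : orderOf q ∣ Nat.card (cent t) := orderOf_dvd_of_pow_eq_one (by
    rw [hq, ← QuotientGroup.mk_pow, QuotientGroup.eq_one_iff, Subgroup.mem_subgroupOf]
    simp [hx])
  have h3 := Nat.eq_one_of_dvd_coprimes (coprime_relIndex H) h1 (orderOf_dvd_natCard q)
  rw [orderOf_eq_one_iff, hq, QuotientGroup.eq_one_iff, Subgroup.mem_subgroupOf] at h3
  exact h3

/-- A conjugate of `A` meets `N` only inside `A`. -/
theorem eq_one_of_conj {g x : G} (hg : g ∉ nrm t) (hx : x ∈ cent t) (hgx : g * x * g⁻¹ ∈ nrm t) :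
    x = 1 := by
  by_contra hx1
  refine hg (cent_conj_eq H hx hx1 (mem_cent_of_pow H hgx ?_))
  have h' : x ^ Nat.card (cent t) = 1 := by
    have := congrArg Subtype.val (pow_card_eq_one' (G := cent t) (x := ⟨x, hx⟩))
    simpa only [SubgroupClass.coe_pow, OneMemClass.coe_one] using this
  rw [conj_pow, h', mul_one, mul_inv_cancel]

section

variable {u : G} (hu : u * u = 1) (huN : u ∉ nrm t)
include hu huN

omit H [Finite G] in
theorem mem_dd {d : G} : d ∈ dd t u ↔ d ∈ nrm t ∧ u * d * u ∈ nrm t := by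
  have huinv : u⁻¹ = u := inv_eq_of_mul_eq_one_right hu
  refine ⟨?_, fun ⟨h1, h2⟩ => ⟨h1, u * d * u, h2, ?_⟩⟩
  · rintro ⟨h1, y, hy, rfl⟩
    refine ⟨h1, ?_⟩
    simp only [MulEquiv.coe_toMonoidHom, MulAut.conj_apply, huinv]
    rw [show u * (u * y * u) * u = (u * u) * y * (u * u) by group, hu, one_mul, mul_one]
    exact hy
  · simp only [MulEquiv.coe_toMonoidHom, MulAut.conj_apply, huinv]
    rw [show u * (u * d * u) * u = (u * u) * d * (u * u) by group, hu, one_mul, mul_one]

theorem dd_inf_cent {d : G} (hd : d ∈ dd t u) (hdA : d ∈ cent t) : d = 1 := by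
  have huinv : u⁻¹ = u := inv_eq_of_mul_eq_one_right hu
  exact eq_one_of_conj H huN hdA (by rw [huinv]; exact ((mem_dd hu huN).1 hd).2)

theorem inverts_dd : ∀ d ∈ dd t u, u * d * u = d⁻¹ := by
  have hu1 : u ≠ 1 := fun h => huN (h ▸ Subgroup.one_mem _)
  refine inverts_of_fpf hu (fun d hd => (mem_dd hu huN).2 ⟨((mem_dd hu huN).1 hd).2, ?_⟩)
    fun d hd hfix => ?_
  · rw [show u * (u * d * u) * u = (u * u) * d * (u * u) by group, hu, one_mul, mul_one]
    exact ((mem_dd hu huN).1 hd).1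
  · obtain ⟨g, hg⟩ := conj_exists H hu hu1
    have hdu : d ∈ cent u := mem_cent.2 (by
      show d * u = u * d
      calc d * u = u * d * u * u := by rw [hfix]
        _ = u * d := by rw [mul_assoc (u * d) u u, hu, mul_one])
    have hpow : d ^ Nat.card (cent t) = 1 := by
      rw [← card_cent_of_sq H hg]
      have := congrArg Subtype.val (pow_card_eq_one' (G := cent u) (x := ⟨d, hdu⟩))
      simpa only [SubgroupClass.coe_pow, OneMemClass.coe_one] using this
    exact dd_inf_cent H hu huN hd (mem_cent_of_pow H ((mem_dd hu huN).1 hd).1 hpow)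

theorem card_dd_le : Nat.card (dd t u) ≤ (cent t).relIndex (nrm t) := by
  refine Nat.card_le_card_of_injective
    (fun d => (QuotientGroup.mk ⟨(d : G), d.2.1⟩ : nrm t ⧸ (cent t).subgroupOf (nrm t)))
    fun x y h => ?_
  rw [QuotientGroup.eq, Subgroup.mem_subgroupOf] at h
  refine Subtype.ext (inv_mul_eq_one.1 (dd_inf_cent H hu huN ?_ h))
  exact (dd t u).mul_mem ((dd t u).inv_mem x.2) y.2

end

end Cfsg.Agent.CharDeep.CC
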