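import Cfsg.Agent.CharDeep.CC.Main
import Cfsg.Agent.Lib.LinearGroup.SmallPSL
import Cfsg.Agent.S0035
import Cfsg.Agent.S0039
import Cfsg.Agent.S0040
import Cfsg.Agent.S0042
import Cfsg.Agent.S0069

/-!
Finite groups in which the centraliser of every element is a TI-subset.
-/

set_option autoImplicit false

namespace Cfsg.Agent.CharDeep.CC.TI

open scoped Pointwise

open CA (cent nrm mem_cent conj_mem_cent card_cent_conj cent_le_nrm)

variable {G : Type*} [Group G]

/-- Every centraliser of an element is normal. -/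
def CentNormal (G : Type*) [Group G] : Prop :=
  ∀ x g y : G, y ∈ cent x → g * y * g⁻¹ ∈ cent x

theorem isNilpotent_of_centNormal [Finite G] (h : CentNormal G) : Group.IsNilpotent G := by
  refine (Group.isNilpotent_of_finite_tfae (G := G) |>.out 0 3 rfl rfl).2 fun p hp P => ?_
  refine ⟨fun x hx g => ?_⟩
  -- the normal closure of an element is commutative
  have hcomm : ∀ a b : G, a ∈ Group.conjugatesOfSet ({x} : Set G) →
      b ∈ Group.conjugatesOfSet ({x} : Set G) → Commute a b := by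
    intro a b ha hb
    obtain ⟨xa, hxa, ha'⟩ := Group.mem_conjugatesOfSet_iff.1 ha
    obtain ⟨xb, hxb, hb'⟩ := Group.mem_conjugatesOfSet_iff.1 hb
    rw [Set.mem_singleton_iff.1 hxa] at ha'
    rw [Set.mem_singleton_iff.1 hxb] at hb'
    obtain ⟨c, rfl⟩ := isConj_iff.1 ha'
    obtain ⟨d, rfl⟩ := isConj_iff.1 hb'
    have h1 := h x (c⁻¹ * d) x (mem_cent.2 (Commute.refl x))
    have h2 := (Commute.conj_iff c).2 (mem_cent.1 h1).symm
    simpa [mul_assoc] using h2
  set A := Subgroup.normalClosure ({x} : Set G) with hA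
  haveI hAc : IsMulCommutative A :=
    Subgroup.isMulCommutative_closure fun a ha b hb => (hcomm a b ha hb).eq
  have hAp : IsPGroup p A := by
    rintro ⟨a, ha⟩
    suffices ∃ k : ℕ, a ^ p ^ k = 1 by
      obtain ⟨k, hk⟩ := this
      exact ⟨k, Subtype.ext hk⟩
    refine Subgroup.closure_induction (k := Group.conjugatesOfSet ({x} : Set G))
      (p := fun a _ => ∃ k : ℕ, a ^ p ^ k = 1) ?_ ⟨0, one_pow _⟩ ?_ ?_ ha
    · intro a ha
      obtain ⟨xa, hxa, ha'⟩ := Group.mem_conjugatesOfSet_iff.1 ha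
      rw [Set.mem_singleton_iff.1 hxa] at ha'
      obtain ⟨c, rfl⟩ := isConj_iff.1 ha'
      obtain ⟨k, hk⟩ := P.2 ⟨x, hx⟩
      have hk' : x ^ p ^ k = 1 := congrArg Subtype.val hk
      exact ⟨k, by rw [conj_pow, hk', mul_one, mul_inv_cancel]⟩
    · rintro a b ha hb ⟨k, hk⟩ ⟨l, hl⟩
      have hab : Commute a b := congrArg Subtype.val (hAc.1.1 ⟨a, ha⟩ ⟨b, hb⟩)
      refine ⟨k + l, ?_⟩
      rw [hab.mul_pow, pow_add, pow_mul a, hk, one_pow, one_mul, mul_comm, pow_mul, hl, one_pow]
    · rintro a - ⟨k, hk⟩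
      exact ⟨k, by rw [inv_pow, hk, inv_one]⟩
  haveI : Fact p.Prime := hp
  obtain ⟨Q, hQ⟩ := hAp.exists_le_sylow
  obtain ⟨d, hd⟩ := MulAction.exists_smul_eq G Q P
  have hAP : A ≤ (P : Subgroup G) := fun a ha => by
    have hmem : d⁻¹ * a * d ∈ (Q : Subgroup G) := hQ (by
      have := Subgroup.normalClosure_normal.conj_mem a ha d⁻¹
      rwa [inv_inv] at this)
    have h1 := Subgroup.smul_mem_pointwise_smul _ (MulAut.conj d) _ hmem
    have h2 : ((d • Q : Sylow p G) : Subgroup G) = MulAut.conj d • (Q : Subgroup G) :=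
      Sylow.coe_subgroup_smul
    rw [← h2, hd] at h1
    simpa [MulAut.smul_def, mul_assoc] using h1
  exact hAP (Subgroup.normalClosure_normal.conj_mem x
    (Subgroup.subset_normalClosure (Set.mem_singleton x)) g)

/-- The TI hypothesis in the form used below. -/
theorem mem_nrm (hTI : ∀ x : G, Cfsg.IsTISubset (cent x : Set G)) {x y g : G}
    (hy : y ∈ cent x) (hy1 : y ≠ 1) (hgy : g * y * g⁻¹ ∈ cent x) : g ∈ nrm x := by
  by_contra hg
  exact hy1 (hTI x g hg y hy hgy)

/-- If the centre is not trivial, every centraliser is normal. -/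
theorem centNormal_of_center (hTI : ∀ x : G, Cfsg.IsTISubset (cent x : Set G))
    (hZ : Subgroup.center G ≠ ⊥) : CentNormal G := by
  obtain ⟨⟨z, hz⟩, hz1⟩ := Subgroup.ne_bot_iff_exists_ne_one.1 hZ
  intro x g y hy
  have hzx : z ∈ cent x := mem_cent.2 (Subgroup.mem_center_iff.1 hz x).symm
  have hg : g ∈ nrm x := mem_nrm hTI hzx (fun h => hz1 (Subtype.ext h)) (by
    rw [Subgroup.mem_center_iff.1 hz g, mul_inv_cancel_right]; exact hzx)
  exact (Subgroup.mem_normalizer_iff.1 hg y).1 hy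

/-- The hypothesis passes to subgroups. -/
theorem ti_subgroup (hTI : ∀ x : G, Cfsg.IsTISubset (cent x : Set G)) (H : Subgroup G) :
    ∀ x : H, Cfsg.IsTISubset (cent x : Set H) := by
  intro x g hg y hy hgy
  by_contra hy1
  have key : ∀ w : H, (w : G) ∈ cent (x : G) ↔ w ∈ cent x := fun w => by
    rw [mem_cent, mem_cent]
    exact ⟨fun h => Subtype.ext h.eq, fun h => congrArg Subtype.val h.eq⟩
  refine hg (Subgroup.mem_normalizer_iff.2 fun w => ?_)
  have hgn : (g : G) ∈ nrm (x : G) :=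
    mem_nrm hTI ((key y).2 hy) (fun h => hy1 (Subtype.ext h)) ((key _).2 hgy)
  rw [← key, ← key]
  exact Subgroup.mem_normalizer_iff.1 hgn w

theorem quaternion_le (n : ℕ) (hn : 2 ≤ n) : ¬ CentNormal (QuaternionGroup (2 ^ n)) := by
  intro h
  have h1 := h (QuaternionGroup.xa 0) (QuaternionGroup.a 1) (QuaternionGroup.xa 0)
    (mem_cent.2 (Commute.refl _))
  rw [mem_cent, commute_iff_eq, eq_comm] at h1
  have hinv : (QuaternionGroup.a 1 : QuaternionGroup (2 ^ n))⁻¹ = QuaternionGroup.a (-1) := rfl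
  rw [hinv, QuaternionGroup.a_mul_xa, QuaternionGroup.xa_mul_a, QuaternionGroup.xa_mul_xa,
    QuaternionGroup.xa_mul_xa, QuaternionGroup.a.injEq] at h1
  have h4 : ((4 : ℕ) : ZMod (2 * 2 ^ n)) = 0 := by
    push_cast
    linear_combination -h1
  rw [ZMod.natCast_eq_zero_iff] at h4
  have := Nat.le_of_dvd (by norm_num) h4
  have : 2 ^ 2 ≤ 2 ^ n := Nat.pow_le_pow_right (by norm_num) hn
  omega

/-- A nilpotent Frobenius complement with normal element centralisers. -/
theorem cyclic_or_quat {H : Type*} [Group H] [Finite H] (hN : CentNormal H)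
    (hS : ∀ (p : ℕ) [Fact p.Prime] (P : Sylow p H),
      IsCyclic P ∨ ∃ n : ℕ, Nonempty (P ≃* QuaternionGroup (2 ^ n))) :
    IsCyclic H ∨ ∃ m : ℕ, Odd m ∧ Nonempty (H ≃* Multiplicative (ZMod m) × QuaternionGroup 2) := by
  classical
  haveI hnil := isNilpotent_of_centNormal hN
  have hnorm : ∀ (p : ℕ) [Fact p.Prime] (P : Sylow p H), (P : Subgroup H).Normal := fun p _ P =>
    (Group.isNilpotent_of_finite_tfae (G := H) |>.out 0 3 rfl rfl).1 hnil p inferInstance P
  -- the odd Sylow subgroups are cyclic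
  have hodd : ∀ (p : ℕ) [Fact p.Prime] (P : Sylow p H), p ≠ 2 → IsCyclic P := fun p hp P hp2 => by
    rcases hS p P with h | ⟨n, ⟨e⟩⟩
    · exact h
    · exfalso
      haveI : NeZero (2 ^ n) := ⟨pow_ne_zero _ two_ne_zero⟩
      obtain ⟨k, hk⟩ := IsPGroup.iff_card.1 P.2
      have h4 : Nat.card P = 4 * 2 ^ n := by
        rw [Nat.card_congr e.toEquiv, Nat.card_eq_fintype_card, QuaternionGroup.card]
      have h2 : 2 ∣ p ^ k := by rw [← hk, h4]; exact Dvd.dvd.mul_right (by norm_num) _
      exact hp2 ((Nat.prime_dvd_prime_iff_eq Nat.prime_two hp.out).1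
        (Nat.prime_two.dvd_of_dvd_pow h2)).symm
  haveI : Fact (Nat.Prime 2) := ⟨Nat.prime_two⟩
  obtain ⟨S⟩ := (inferInstance : Nonempty (Sylow 2 H))
  haveI hSn := hnorm 2 S
  rcases hS 2 S with hc | ⟨n, ⟨e⟩⟩
  · refine Or.inl ?_
    haveI : IsZGroup H := ⟨fun p hp P => by
      haveI : Fact p.Prime := ⟨hp⟩
      by_cases hp2 : p = 2
      · subst hp2
        obtain ⟨g, hg⟩ := MulAction.exists_smul_eq H S P
        rw [← hg]
        exact isCyclic_of_surjective _ (Sylow.equiv S (g • S)).surjective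
      · exact hodd p P hp2⟩
    infer_instance
  · haveI : NeZero (2 ^ n) := ⟨pow_ne_zero _ two_ne_zero⟩
    have hSN : CentNormal S := fun x g y hy => by
      rw [mem_cent] at hy ⊢
      exact Subtype.ext (mem_cent.1 (hN (x : H) g y
        (mem_cent.2 (congrArg Subtype.val hy.eq)))).eq
    have hn : n ≤ 1 := by
      by_contra hn
      refine quaternion_le n (by omega) fun x g y hy => ?_
      have h1 := hSN (e.symm x) (e.symm g) (e.symm y)
        (mem_cent.2 ((mem_cent.1 hy).map e.symm.toMonoidHom))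
      have h2 := (mem_cent.1 h1).map e.toMonoidHom
      rw [mem_cent]
      simpa using h2
    obtain ⟨O, hO⟩ := Subgroup.exists_right_complement'_of_coprime (N := (S : Subgroup H))
      S.card_coprime_index
    have hSc : Nat.card S = 2 ^ (n + 2) := by
      rw [Nat.card_congr e.toEquiv, Nat.card_eq_fintype_card, QuaternionGroup.card]
      ring
    have hOi : Nat.card O = (S : Subgroup H).index := hO.symm.card_left
    have hOodd : Odd (Nat.card O) := by
      rw [hOi]; exact Nat.odd_iff.2 (Nat.two_dvd_ne_zero.1 S.not_dvd_index)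
    haveI : IsZGroup O := ⟨fun p hp P => by
      haveI : Fact p.Prime := ⟨hp⟩
      by_cases hp2 : p = 2
      · subst hp2
        obtain ⟨k, hk⟩ := IsPGroup.iff_card.1 P.2
        have h1 : Nat.card P = 1 := by
          rcases k with _ | k
          · simpa using hk
          · exfalso
            have h2 : 2 ∣ Nat.card P := by rw [hk]; exact dvd_pow_self 2 (Nat.succ_ne_zero k)
            exact hOodd.not_two_dvd_nat (h2.trans (Subgroup.card_subgroup_dvd_card _))
        haveI := (Nat.card_eq_one_iff_unique.1 h1).1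
        exact isCyclic_of_subsingleton
      · obtain ⟨Q, hQ⟩ := (P.2.map O.subtype).exists_le_sylow
        haveI := hodd p Q hp2
        exact isCyclic_of_injective ((Subgroup.inclusion hQ).comp
          ((P : Subgroup O).equivMapOfInjective O.subtype O.subtype_injective).toMonoidHom)
          ((Subgroup.inclusion_injective hQ).comp (MulEquiv.injective _))⟩
    haveI : Group.IsNilpotent O := inferInstance
    haveI : IsCyclic O := inferInstance
    have hcomm : ∀ (s : S) (o : O), Commute (s : H) (o : H) := fun s o => by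
      -- the commutator lies in `S` and, mapped to a cyclic group, is trivial
      have hco : (orderOf (s : H)).Coprime (orderOf (o : H)) := by
        rw [Subgroup.orderOf_coe, Subgroup.orderOf_coe]
        refine Nat.Coprime.of_dvd (orderOf_dvd_natCard s) (orderOf_dvd_natCard o) ?_
        refine (show Nat.card (S : Subgroup H) = 2 ^ (n + 2) from hSc) ▸ ?_
        exact Nat.Coprime.pow_left _ (Nat.prime_two.coprime_iff_not_dvd.2 hOodd.not_two_dvd_nat)
      exact Transfer.nilpotent_commute_of_coprime hnil hco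
    let f : O × S →* H :=
      MonoidHom.noncommCoprod O.subtype (S : Subgroup H).subtype fun o s => (hcomm s o).symm
    have hf : Function.Bijective f := by
      rw [Nat.bijective_iff_injective_and_card]
      refine ⟨?_, ?_⟩
      · intro a b hab
        exact Subgroup.mul_injective_of_disjoint hO.disjoint.symm hab
      · rw [Nat.card_prod, mul_comm, hO.card_mul_card]
    rcases (show n = 0 ∨ n = 1 by omega) with rfl | rfl
    · refine Or.inl ?_
      haveI : IsCyclic (QuaternionGroup (2 ^ 0)) := by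
        rw [pow_zero]; exact QuaternionGroup.quaternionGroup_one_isCyclic
      haveI : IsCyclic S := isCyclic_of_surjective e.symm e.symm.surjective
      haveI : IsCyclic (O × S) := Group.isCyclic_prod_iff.2 ⟨inferInstance, inferInstance,
        by rw [hSc]; exact Nat.Coprime.pow_right _ (Nat.coprime_two_right.2 hOodd)⟩
      exact isCyclic_of_surjective f hf.2
    · refine Or.inr ⟨Nat.card O, hOodd, ⟨(MulEquiv.ofBijective f hf).symm.trans
        (MulEquiv.prodCongr (zmodCyclicMulEquiv inferInstance).symm e)⟩⟩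

variable [Finite G] (hTI : ∀ x : G, Cfsg.IsTISubset (cent x : Set G))
include hTI

/-- A normal abelian subgroup in a group with trivial centre. -/
theorem frobenius_of_abelian (hZ : Subgroup.center G = ⊥) (A : Subgroup G) [A.Normal]
    (hAc : ∀ a ∈ A, ∀ b ∈ A, Commute a b) (hA1 : A ≠ ⊥) :
    ∃ H : Subgroup G, Cfsg.IsFrobeniusComplement H ∧
      (IsCyclic H ∨ ∃ m : ℕ, Odd m ∧ Nonempty (H ≃* Multiplicative (ZMod m) × QuaternionGroup 2)) := by
  classical
  haveI := Fintype.ofFinite G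
  -- elements of normal abelian subgroups have normal centralisers
  have hnorm : ∀ (B : Subgroup G), B.Normal → (∀ a ∈ B, ∀ b ∈ B, Commute a b) → ∀ a ∈ B, a ≠ 1 →
      (cent a).Normal := fun B hB hBc a ha ha1 => by
    refine ⟨fun y hy g => ?_⟩
    have hg : g ∈ nrm a := mem_nrm hTI (y := a) (mem_cent.2 (Commute.refl a)) ha1
      (mem_cent.2 (hBc _ (hB.conj_mem a ha g) _ ha))
    exact (Subgroup.mem_normalizer_iff.1 hg y).1 hy
  obtain ⟨⟨a₀, ha₀⟩, ha₀1⟩ := Subgroup.ne_bot_iff_exists_ne_one.1 hA1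
  let T := Finset.univ.filter fun a : G => a ≠ 1 ∧ (cent a).Normal
  obtain ⟨a, haT, hmax⟩ := T.exists_max_image (fun a => Nat.card (cent a))
    ⟨a₀, Finset.mem_filter.2 ⟨Finset.mem_univ _, fun h => ha₀1 (Subtype.ext h),
      hnorm A inferInstance hAc a₀ ha₀ fun h => ha₀1 (Subtype.ext h)⟩⟩
  obtain ⟨-, ha1, haN⟩ := Finset.mem_filter.1 haT
  haveI := haN
  set C := cent a with hC
  set B := (Subgroup.center C).map C.subtype with hB
  haveI hBn : B.Normal := by rw [hB]; infer_instance
  have haB : a ∈ B := ⟨⟨a, mem_cent.2 (Commute.refl a)⟩, Subgroup.mem_center_iff.2 fun y =>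
    Subtype.ext (mem_cent.1 y.2).eq, rfl⟩
  have hBC : ∀ b ∈ B, ∀ c ∈ C, Commute b c := by
    rintro _ ⟨b, hb, rfl⟩ c hc
    exact congrArg Subtype.val (Subgroup.mem_center_iff.1 hb ⟨c, hc⟩).symm
  have hBleC : B ≤ C := Subgroup.map_subtype_le _
  have hcentB : ∀ b ∈ B, b ≠ 1 → cent b = C := fun b hb hb1 => by
    refine (Subgroup.eq_of_le_of_card_ge (fun c hc => mem_cent.2 (hBC b hb c hc).symm) ?_).symm
    exact hmax b (Finset.mem_filter.2 ⟨Finset.mem_univ _, hb1,
      hnorm B hBn (fun x hx y hy => hBC x hx y (hBleC hy)) b hb hb1⟩)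
  -- nothing outside `C` commutes with a non-identity element of `C`
  have hfree : ∀ h : G, h ∉ C → ∀ c ∈ C, Commute c h → c = 1 := by
    intro h hh c hc hch
    by_contra hc1
    have hcomm : Commute a h := by
      have hn : a ∈ nrm h := mem_nrm hTI (mem_cent.2 hch) hc1 (by
        rw [(hBC a haB c hc).eq, mul_inv_cancel_right]; exact mem_cent.2 hch)
      set d := a * h * a⁻¹ * h⁻¹ with hd
      have hdh : d ∈ cent h := (cent h).mul_mem
        ((Subgroup.mem_normalizer_iff.1 hn h).1 (mem_cent.2 (Commute.refl h)))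
        ((cent h).inv_mem (mem_cent.2 (Commute.refl h)))
      have hdB : d ∈ B := by
        rw [hd, mul_assoc a h, mul_assoc a]
        exact B.mul_mem haB (hBn.conj_mem _ (B.inv_mem haB) h)
      by_contra hne
      refine hh ?_
      rw [← hcentB d hdB (fun h1 => hne (mul_inv_eq_iff_eq_mul.1 (mul_inv_eq_one.1 (hd ▸ h1))))]
      exact mem_cent.2 (mem_cent.1 hdh).symm
    exact hh (mem_cent.2 hcomm.symm)
  have hC1 : C ≠ ⊥ := fun h => ha1 (Subgroup.mem_bot.1 (h ▸ mem_cent.2 (Commute.refl a)))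
  have hCtop : C ≠ ⊤ := fun h => ha1 (Subgroup.mem_bot.1 (hZ ▸ Subgroup.mem_center_iff.2
    fun y => (mem_cent.1 (show y ∈ C from h ▸ Subgroup.mem_top y)).eq))
  -- the order of `C` is prime to its index
  have hcop : (Nat.card C).Coprime C.index := by
    refine Nat.coprime_of_dvd' fun p hp hpC hpi => absurd hpi ?_
    haveI := Fact.mk hp
    obtain ⟨x, hx⟩ := exists_prime_orderOf_dvd_card' (G := C) p hpC
    have hxo : orderOf (x : G) = p := by rw [Subgroup.orderOf_coe, hx]
    have hx1 : (x : G) ≠ 1 := fun h => by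
      rw [h, orderOf_one] at hxo
      exact hp.ne_one hxo.symm
    obtain ⟨Q, hQ⟩ := (IsPGroup.of_card (p := p) (n := 1) (G := Subgroup.zpowers (x : G))
      (by rw [Nat.card_zpowers, hxo, pow_one])).exists_le_sylow
    have hxQ : (x : G) ∈ (Q : Subgroup G) := hQ (Subgroup.mem_zpowers _)
    haveI : Nontrivial (Q : Subgroup G) :=
      ⟨⟨⟨x, hxQ⟩, 1, fun h => hx1 (congrArg Subtype.val h)⟩⟩
    haveI := Q.2.center_nontrivial
    obtain ⟨⟨⟨z, hzQ⟩, hz⟩, hz1⟩ := exists_ne (1 : Subgroup.center (Q : Subgroup G))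
    have hzc : ∀ y ∈ (Q : Subgroup G), Commute z y := fun y hy =>
      (congrArg Subtype.val (Subgroup.mem_center_iff.1 hz ⟨y, hy⟩)).symm
    have hzC : z ∈ C := by
      by_contra hzC
      exact hx1 (hfree z hzC x x.2 (hzc x hxQ).symm)
    have hQC : (Q : Subgroup G) ≤ C := fun y hy => by
      by_contra hyC
      exact hz1 (Subtype.ext (Subtype.ext (hfree y hyC z hzC (hzc y hy))))
    exact fun h => Q.not_dvd_index (h.trans (Subgroup.index_dvd_of_le hQC))
  obtain ⟨H, hH⟩ := Subgroup.exists_right_complement'_of_coprime hcop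
  have hfpf : ∀ h ∈ H, h ≠ 1 → C ⊓ Subgroup.centralizer {h} = ⊥ := fun h hh hh1 => by
    refine (Subgroup.eq_bot_iff_forall _).2 fun c hc => hfree h (fun hhC => hh1 ?_) c hc.1
      (mem_cent.1 hc.2)
    exact Subgroup.mem_bot.1 (hH.disjoint.le_bot ⟨hhC, hh⟩)
  have hH1 : H ≠ ⊥ := fun h => hCtop (Subgroup.isComplement'_bot_right.1 (h ▸ hH))
  refine ⟨H, (S0039.result C H hH hC1 hH1).2 hfpf, ?_⟩
  exact cyclic_or_quat (centNormal_of_center (ti_subgroup hTI H)
    (S0069.result C H hH hC1 hH1 hfpf)) fun p _ P => S0040.result C H hH hC1 hfpf p P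

theorem main (hodd : Odd (Nat.card G) → Group.IsSolvable G ∨ ¬ Cfsg.IsCNGroup G) :
    Group.IsNilpotent G ∨
    (∃ H : Subgroup G, Cfsg.IsFrobeniusComplement H ∧
      (IsCyclic H ∨ ∃ m : ℕ, Odd m ∧ Nonempty (H ≃* Multiplicative (ZMod m) × QuaternionGroup 2))) ∨
    (∃ n : ℕ, 2 ≤ n ∧ Nonempty (G ≃* Matrix.ProjectiveSpecialLinearGroup (Fin 2) (GaloisField 2 n))) := by
  classical
  by_cases hZ : Subgroup.center G = ⊥
  swap
  · exact Or.inl (isNilpotent_of_centNormal (centNormal_of_center hTI hZ))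
  by_cases hab : ∃ A : Subgroup G, A.Normal ∧ (∀ a ∈ A, ∀ b ∈ A, Commute a b) ∧ A ≠ ⊥
  · obtain ⟨A, hA, hAc, hA1⟩ := hab
    exact Or.inr (Or.inl (frobenius_of_abelian hTI hZ A hAc hA1))
  push Not at hab
  rcases subsingleton_or_nontrivial G with hG | hG
  · exact Or.inl inferInstance
  have hns : ¬ Group.IsSolvable G := fun hs => by
    obtain ⟨k, hk⟩ := (Group.isSolvable_def G).1 hs
    induction k with
    | zero => exact absurd (derivedSeries_zero G ▸ hk) top_ne_bot
    | succ k ih =>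
      refine ih (hab _ (derivedSeries_normal G k) fun a ha b hb => ?_)
      rw [commute_iff_eq, ← commutatorElement_eq_one_iff_mul_comm, ← Subgroup.mem_bot, ← hk]
      exact Subgroup.commutator_mem_commutator ha hb
  -- centralisers are not normal
  have hnn : ∀ x : G, x ≠ 1 → nrm x ≠ ⊤ := fun x hx he => by
    haveI : (cent x).Normal := Subgroup.normalizer_eq_top_iff.1 he
    refine hx (Subgroup.mem_bot.1 (hab ((Subgroup.center (cent x)).map (cent x).subtype)
      inferInstance ?_ ▸ ⟨⟨x, mem_cent.2 (Commute.refl x)⟩,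
        Subgroup.mem_center_iff.2 fun y => Subtype.ext (mem_cent.1 y.2).eq, rfl⟩))
    rintro _ ⟨a, ha, rfl⟩ _ ⟨b, hb, rfl⟩
    exact congrArg Subtype.val (Subgroup.mem_center_iff.1 ha b).symm
  have hCN : Cfsg.IsCNGroup G := fun x hx => by
    refine isNilpotent_of_centNormal (centNormal_of_center (ti_subgroup hTI (cent x)) ?_)
    intro h
    refine hx (congrArg Subtype.val (Subgroup.mem_bot.1 (h ▸ Subgroup.mem_center_iff.2 fun y =>
      Subtype.ext (mem_cent.1 y.2).eq : (⟨x, mem_cent.2 (Commute.refl x)⟩ : cent x) ∈ ⊥)))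
  have heven : 2 ∣ Nat.card G := even_iff_two_dvd.1 (Nat.not_odd_iff_even.1 fun ho =>
    (hodd ho).elim hns (not_not.2 hCN))
  haveI : Fact (Nat.Prime 2) := ⟨Nat.prime_two⟩
  obtain ⟨S⟩ := (inferInstance : Nonempty (Sylow 2 G))
  haveI : Nontrivial (S : Subgroup G) :=
    Subgroup.nontrivial_iff_ne_bot _ |>.2 (S.ne_bot_of_dvd_card heven)
  haveI := S.2.center_nontrivial
  obtain ⟨z, hz1⟩ := exists_ne (1 : Subgroup.center (S : Subgroup G))
  obtain ⟨k, hk⟩ := (S.2.to_subgroup (Subgroup.center (S : Subgroup G))) z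
  have hzd : 2 ∣ orderOf z := by
    obtain ⟨j, -, hj⟩ := (Nat.dvd_prime_pow Nat.prime_two).1 (orderOf_dvd_of_pow_eq_one hk)
    rw [hj]
    rcases j with _ | j
    · exact absurd (orderOf_eq_one_iff.1 (by rw [hj, pow_zero])) hz1
    · exact dvd_pow_self 2 (Nat.succ_ne_zero j)
  set w := z ^ (orderOf z / 2) with hw
  have hwo : orderOf w = 2 := orderOf_pow_orderOf_div (orderOf_pos z).ne' hzd
  set t : G := ((w : S) : G) with ht
  have hto : orderOf t = 2 := by rw [ht, Subgroup.orderOf_coe, Subgroup.orderOf_coe, hwo]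
  have ht1 : t ≠ 1 := fun h => by rw [h, orderOf_one] at hto; norm_num at hto
  have ht2 : t * t = 1 := by rw [← pow_two, ← hto, pow_orderOf_eq_one]
  have hS : (S : Subgroup G) ≤ cent t := fun s hs =>
    mem_cent.2 (congrArg Subtype.val (Subgroup.mem_center_iff.1 w.2 ⟨s, hs⟩))
  haveI : ((cent t).subgroupOf (nrm t)).Normal := Subgroup.normal_in_normalizer
  have hsub : ∀ a ∈ cent t, a ≠ 1 → cent a ≤ cent t := by
    intro a ha ha1 y hy
    have hyn : y ∈ nrm t := mem_nrm hTI ha ha1 (by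
      rw [(mem_cent.1 hy).eq, mul_inv_cancel_right]; exact ha)
    haveI hnil : Group.IsNilpotent (cent a) := hCN a ha1
    obtain ⟨e, m, hm, hem⟩ := Nat.exists_eq_two_pow_mul_odd (orderOf_pos y).ne'
    -- the part of odd order commutes with `t`, the `2`-part lies in the kernel
    have h1 : y ^ 2 ^ e ∈ cent t := by
      have hto' : orderOf (⟨t, mem_cent.2 (mem_cent.1 ha).symm⟩ : cent a) = 2 := by
        rw [Subgroup.orderOf_mk, hto]
      have hco : (orderOf (⟨y, hy⟩ : cent a) ^ 0 * orderOf ((⟨y, hy⟩ : cent a) ^ 2 ^ e)).Coprime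
          (orderOf (⟨t, mem_cent.2 (mem_cent.1 ha).symm⟩ : cent a)) := by
        rw [hto', pow_zero, one_mul, Nat.coprime_two_right]
        have : orderOf ((⟨y, hy⟩ : cent a) ^ 2 ^ e) ∣ m := orderOf_dvd_of_pow_eq_one (by
          rw [← pow_mul, ← hem]
          exact Subtype.ext (by simp [pow_orderOf_eq_one]))
        exact hm.of_dvd_nat this
      rw [pow_zero, one_mul] at hco
      exact mem_cent.2 (congrArg Subtype.val (Transfer.nilpotent_commute_of_coprime hnil hco).eq)
    have h2 : y ^ m ∈ cent t := by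
      set q : nrm t ⧸ (cent t).subgroupOf (nrm t) :=
        QuotientGroup.mk ⟨y ^ m, (nrm t).pow_mem hyn m⟩ with hq
      have h3 : orderOf q ∣ 2 ^ e := orderOf_dvd_of_pow_eq_one (by
        rw [hq, ← QuotientGroup.mk_pow, QuotientGroup.eq_one_iff, Subgroup.mem_subgroupOf]
        show (y ^ m) ^ 2 ^ e ∈ cent t
        rw [← pow_mul, mul_comm, ← hem, pow_orderOf_eq_one]
        exact Subgroup.one_mem _)
      have h4 : ¬ 2 ∣ (cent t).relIndex (nrm t) := fun hd =>
        S.not_dvd_index (dvd_trans (by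
          rw [← Subgroup.relIndex_mul_index (cent_le_nrm t)]
          exact dvd_mul_of_dvd_left hd _) (Subgroup.index_dvd_of_le hS))
      have h5 := Nat.eq_one_of_dvd_coprimes
        ((Nat.prime_two.coprime_iff_not_dvd.2 h4).pow_left e) h3 (orderOf_dvd_natCard q)
      rw [orderOf_eq_one_iff, hq, QuotientGroup.eq_one_iff, Subgroup.mem_subgroupOf] at h5
      exact h5
    have hgcd : Nat.gcd (2 ^ e) m = 1 :=
      Nat.Coprime.pow_left e (Nat.prime_two.coprime_iff_not_dvd.2 hm.not_two_dvd_nat)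
    have h6 : y = (y ^ 2 ^ e) ^ (Nat.gcdA (2 ^ e) m) * (y ^ m) ^ (Nat.gcdB (2 ^ e) m) := by
      rw [← zpow_natCast, ← zpow_natCast y m, ← zpow_mul, ← zpow_mul, ← zpow_add,
        ← Nat.gcd_eq_gcd_ab, hgcd, Nat.cast_one, zpow_one]
    rw [h6]
    exact (cent t).mul_mem ((cent t).zpow_mem h1 _) ((cent t).zpow_mem h2 _)
  have hself : nrm t ≠ cent t := fun he => by
    have hFC : Cfsg.IsFrobeniusComplement (cent t) := by
      refine ⟨fun h => ht1 (Subgroup.mem_bot.1 (h ▸ mem_cent.2 (Commute.refl t))),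
        fun h => hnn t ht1 (he.trans h), fun g hg => (Subgroup.eq_bot_iff_forall _).2 ?_⟩
      rintro x ⟨hx, y, hy, rfl⟩
      simp only [MulDistribMulAction.toMonoidEnd_apply, MulAut.conj_apply,
        MulDistribMulAction.toMonoidHom_apply, MulAut.smul_def] at hx ⊢
      rw [hTI t g (fun h => hg (he ▸ h : g ∈ cent t)) y hy hx, mul_one, mul_inv_cancel]
    obtain ⟨K, hK, hKn, hKnil⟩ := S0042.result _ hFC
    obtain ⟨K', hK', -, hc⟩ := S0035.result _ hFC
    rw [← SetLike.coe_injective (hK.trans hK'.symm)] at hc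
    have hK1 : K ≠ ⊥ := fun h => hFC.2.1 (Subgroup.isComplement'_bot_left.1 (h ▸ hc))
    haveI := hKn
    haveI : Nontrivial K := Subgroup.nontrivial_iff_ne_bot _ |>.2 hK1
    haveI := hKnil
    have hcK : (Subgroup.center K).map K.subtype ≠ ⊥ := by
      rw [Ne, Subgroup.map_eq_bot_iff_of_injective _ K.subtype_injective]
      exact Group.IsNilpotent.center_ne_bot K
    refine hcK (hab _ inferInstance ?_)
    rintro _ ⟨a, ha, rfl⟩ _ ⟨b, hb, rfl⟩
    exact congrArg Subtype.val (Subgroup.mem_center_iff.1 ha b).symm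
  have D : Data G t := ⟨hsub, ht1, ht2, ⟨S, hS⟩, hnn t ht1, hself⟩
  obtain ⟨-, F, _, _, f, hf2, hF, -, ⟨e⟩⟩ := psl_of_data D (fun y hy hy1 n hn x hx => by
    have htt : t ∈ cent t := mem_cent.2 (Commute.refl t)
    have hty : t ∈ cent y := mem_cent.2 (mem_cent.1 hy).symm
    have hs : n * t * n⁻¹ ∈ cent t := (Subgroup.mem_normalizer_iff.1 hn t).1 htt
    have hsc : cent (n * t * n⁻¹) = cent t :=
      Subgroup.eq_of_le_of_card_ge (hsub _ hs (by simpa using ht1)) (by rw [card_cent_conj])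
    have hmem : n * t * n⁻¹ ∈ cent y := mem_cent.2 (mem_cent.1 (hsc.symm ▸ hy)).symm
    exact (Subgroup.mem_normalizer_iff.1 (mem_nrm hTI hty ht1 hmem) x).1 hx)
  haveI : Fintype (GaloisField 2 f) := Fintype.ofFinite _
  refine Or.inr (Or.inr ⟨f, hf2, ⟨e.trans (LinearGroup.pslCongr
    (FiniteField.ringEquivOfCardEq (K := F) (K' := GaloisField 2 f) ?_))⟩⟩)
  rw [hF, ← Nat.card_eq_fintype_card, GaloisField.card 2 f (by omega)]

end Cfsg.Agent.CharDeep.CC.TI
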